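import Cfsg.Agent.Lib.SimplyDeg48.Final
import Cfsg.Agent.Lib.SimplyDeg48.DataE8
import Cfsg.Agent.Lib.ChevStructure.Perfect
import Cfsg.Agent.Lib.ChevStructure.Order.CertE8

/-!
The minimal degree of E8(q).
-/

set_option autoImplicit false
set_option maxRecDepth 100000
set_option maxHeartbeats 800000
set_option linter.style.longLine false

namespace Cfsg.Agent.Lib.SimplyDeg48.E8

open Cfsg.Lie Cfsg.Agent.Lib.ChevStructure

theorem lens : rows.map (fun r => r.2.1.length) =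
    [28, 27, 26, 25, 24, 23, 22, 21, 22, 21, 20, 20, 19, 19, 18, 18, 18, 17, 17, 17, 16, 16, 16, 16, 15, 15, 15, 14, 14, 14, 13, 13, 12, 12, 11, 10, 15, 14, 13, 13, 12, 12, 12, 11, 11, 11, 11, 10, 10, 10, 10, 10, 9, 9, 9, 9, 9, 9, 8, 8, 8, 8, 8, 8, 7, 7, 7, 7, 7, 7, 6, 6, 6, 6, 6, 6, 5, 5, 5, 5, 5, 4, 4, 4, 4, 3, 3, 3, 2, 2, 1, 0] := by decide +kernel

theorem peval_k (q : ℤ) : Order.peval kE8 q = q ^ 29 + q ^ 23 + q ^ 19 + q ^ 17 + q ^ 13 + q ^ 11 + q ^ 7 + q - 1 := by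
  simp [Order.peval, kE8]
  ring

theorem total_eq (q : ℕ) (hq : 1 ≤ q) : cert.total q + 1 = q ^ 29 + q ^ 23 + q ^ 19 + q ^ 17 + q ^ 13 + q ^ 11 + q ^ 7 + q := by
  obtain ⟨p, rfl⟩ : ∃ p, q = p + 1 := ⟨q - 1, by omega⟩
  have e : cert.total (p + 1) = ((rows.map fun r => r.2.1.length).map fun l => p * (p + 1) ^ l).sum +
      ∑ i ∈ Finset.range (7), (p + 1) ^ (i + 1) := by
    rw [List.map_map]
    rfl
  rw [e, lens]
  simp only [List.map_cons, List.map_nil, List.sum_cons, List.sum_nil, Finset.sum_range_succ,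
    Finset.sum_range_zero]
  ring

theorem bound {F : Type*} [Field F] [Fintype F] {k : ℕ}
    (ρ : Representation ℂ (chevE8.group F) (Fin k → ℂ)) (hρ : ρ.IsIrreducible) (hk : 2 ≤ k) :
    Fintype.card F ^ 29 + Fintype.card F ^ 23 + Fintype.card F ^ 19 + Fintype.card F ^ 17 + Fintype.card F ^ 13 + Fintype.card F ^ 11 + Fintype.card F ^ 7 + Fintype.card F ≤ k := by
  have hq : 2 ≤ Fintype.card F := Fintype.one_lt_card
  by_contra hlt
  have hlt' := Nat.lt_of_not_le hlt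
  have hB : Fintype.card F ^ 29 + Fintype.card F ^ 23 + Fintype.card F ^ 19 + Fintype.card F ^ 17 + Fintype.card F ^ 13 + Fintype.card F ^ 11 + Fintype.card F ^ 7 + Fintype.card F ≤
      2 * (Fintype.card F - 1) * (Fintype.card F ^ 28 + Fintype.card F ^ 27) := by
    obtain ⟨p, hp⟩ : ∃ p, Fintype.card F = p + 2 := ⟨Fintype.card F - 2, by omega⟩
    rw [hp, show p + 2 - 1 = p + 1 by omega]
    have h1 : ∀ i, i < 27 → (p + 2) ^ i * (p + 2) ≤ (p + 2) ^ 27 := fun i hi => by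
      rw [← pow_succ]; exact Nat.pow_le_pow_right (by omega) hi
    have h0 : ∀ i, i ≤ 27 → (p + 2) ^ i ≤ (p + 2) ^ 27 := fun i hi =>
      Nat.pow_le_pow_right (by omega) hi
    have g23 := h0 23 (by norm_num)
    have g19 := h0 19 (by norm_num)
    have g17 := h0 17 (by norm_num)
    have g13 := h0 13 (by norm_num)
    have g11 := h0 11 (by norm_num)
    have g7 := h0 7 (by norm_num)
    have g1 := h0 1 (by norm_num)
    have e1 : (p + 2) ^ 28 = (p + 2) * (p + 2) ^ 27 := pow_succ' _ _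
    have e2 : (p + 2) ^ 29 = (p + 2) * (p + 2) * (p + 2) ^ 27 := by rw [pow_succ', e1, mul_assoc]
    simp only [pow_one] at g1 ⊢
    rw [e1, e2]
    nlinarith [Nat.zero_le (p * (p + 2) ^ 27), Nat.zero_le (p * p * (p + 2) ^ 27)]
  obtain ⟨htot, hdvd⟩ := degree_of_cert Cert.E8.certified (Cert.E8.core.commOK_mild mildE8) sl
    (simple_big chevE8 (by simp) (K := F)).1 cert ok ρ hρ hk hlt' hB
  have ht := total_eq (Fintype.card F) (by omega)
  refine not_dvd_order hq ndE8 ?_ (m := k) (N := chevE8.nroots / 2) ?_ hdvd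
    (Dvd.intro_left _ (Order.CertE8.card_group (K := F) rfl))
    (w := (Fintype.card F : ℤ) ^ 28 + (Fintype.card F : ℤ) ^ 22 + (Fintype.card F : ℤ) ^ 18 + (Fintype.card F : ℤ) ^ 16 + (Fintype.card F : ℤ) ^ 12 + (Fintype.card F : ℤ) ^ 10 + (Fintype.card F : ℤ) ^ 6 + 1) ?_
  · rw [peval_k]
    have hq' : (1 : ℤ) ≤ Fintype.card F := by omega
    have := pow_nonneg (by omega : (0 : ℤ) ≤ Fintype.card F)
    simp only [RE8, List.length_cons, List.length_nil, zero_add, Nat.reduceAdd]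
    nlinarith [this 23, this 19, this 17, this 13, this 11, this 7, this 1]
  · rw [peval_k]
    have e : k + 1 = Fintype.card F ^ 29 + Fintype.card F ^ 23 + Fintype.card F ^ 19 + Fintype.card F ^ 17 + Fintype.card F ^ 13 + Fintype.card F ^ 11 + Fintype.card F ^ 7 + Fintype.card F := by omega
    have e' := congrArg (fun x : ℕ => (x : ℤ)) e
    push_cast at e'
    linarith
  · rw [peval_k]; ring

end Cfsg.Agent.Lib.SimplyDeg48.E8
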