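import Cfsg.Agent.Lib.SimplyDeg48.Model

/-!
Boolean checks of the combinatorial side conditions and their meaning.
-/

set_option autoImplicit false
set_option linter.unusedSectionVars false
set_option maxHeartbeats 400000

namespace Cfsg.Agent.Lib.SimplyDeg48

open Cfsg.Lie Cfsg.Agent.Lib.ChevStructure

/-- The set of a list as a bit mask. -/
def maskOf : List ℕ → ℕ
  | [] => 0
  | a :: S => Nat.lor (Nat.shiftLeft 1 a) (maskOf S)

/-- Membership through the mask. -/
def memB (S : List ℕ) (x : ℕ) : Bool := (maskOf S).testBit x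

theorem memB_iff : ∀ (S : List ℕ) (x : ℕ), memB S x = true ↔ x ∈ S
  | [], x => by simp [memB, maskOf]
  | a :: S, x => by
    have h : maskOf (a :: S) = 2 ^ a ||| maskOf S := by
      show (1 <<< a) ||| maskOf S = _
      rw [Nat.shiftLeft_eq, one_mul]
    rw [memB, h, Nat.testBit_lor, Bool.or_eq_true, Nat.testBit_two_pow, decide_eq_true_eq,
      List.mem_cons, show ((maskOf S).testBit x = true ↔ x ∈ S) from memB_iff S x]
    exact or_congr_left eq_comm

/-- S is kept by the root group m. -/
def presB (T : Fast) (S : List ℕ) (m : ℕ) : Bool :=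
  S.all fun r => comB T r m || (!Nat.beq (T.code m r) 0 && memB S (Fast.tgt (T.code m r)))

/-- The entries are root indices. -/
def ltB (T : Fast) (S : List ℕ) : Bool := S.all fun r => Nat.blt r T.n

/-- One list contains the other. -/
def subB (S S' : List ℕ) : Bool := S.all fun r => memB S' r

/-- Neighbour pairs may be used one after another. -/
def shiftB (T : Fast) (γ : ℕ) : List ℕ → List (ℕ × ℕ) → Bool
  | _, [] => true
  | S, p :: L => Nat.blt p.1 T.n && Nat.blt p.2 T.n && sumB T p.1 p.2 γ && comB T γ p.1 &&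
      comB T γ p.2 && presB T S p.1 && presB T S p.2 && shiftB T γ (p.1 :: S) L

/-- The list after adding the first entries. -/
def addS : List ℕ → List (ℕ × ℕ) → List ℕ
  | S, [] => S
  | S, p :: L => addS (p.1 :: S) L

/-- A word in the fundamental reflections applied to a root. -/
def act (T : Fast) : List ℕ → ℕ → ℕ
  | [], x => x
  | i :: L, x => T.w i (act T L x)

/-- The word carries S onto a set containing S'. -/
def carryB (T : Fast) (L : List ℕ) (S S' : List ℕ) : Bool :=
  L.all (fun i => Nat.blt i T.l) && S'.all fun t => memB S (act T L.reverse t)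

/-- Some coroot takes the value one. -/
def torB (T : Fast) (d : ℕ) : Bool := (List.range T.n).any fun r => decide (T.pr r d = 1)

/-- The line is kept. -/
def keepB (T : Fast) (K : List ℕ) (d : ℕ) (Z : List ℕ) (a : ℕ) : Bool :=
  (d :: K).all fun r => comB T r a || (!Nat.beq (T.code a r) 0 && memB Z (Fast.tgt (T.code a r)))

/-- Commutators of roots keeping the line. -/
def closB (T : Fast) (K : List ℕ) (d : ℕ) : List ℕ → List (ℕ × ℕ × ℕ) → Bool
  | _, [] => true
  | Z, t :: L => Nat.blt t.1 T.n && Nat.blt t.2.1 T.n && Nat.blt t.2.2 T.n &&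
      keepB T K d Z t.1 && keepB T K d Z t.2.1 && sumB T t.1 t.2.1 t.2.2 &&
      closB T K d (t.2.2 :: Z) L

/-- The list after the closure. -/
def closS : List ℕ → List (ℕ × ℕ × ℕ) → List ℕ
  | Z, [] => Z
  | Z, t :: L => closS (t.2.2 :: Z) L

variable {T : Fast} {D : ChevalleyDatum} (H : Fast.Certified T D) (hc : CommOK H.core)
  (hsl : slB T = true)

include H in
theorem nroots_pos : 0 < D.nroots := by
  have h1 := H.half_eq
  have h2 := (H.simple_spec H.l_pos).1
  have h3 := H.hn
  omega

/-- A root from its index. -/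
def mk (a : ℕ) : Rt D := ⟨a % D.nroots, Nat.mod_lt _ (nroots_pos H)⟩

theorem mk_val {a : ℕ} (h : a < T.n) : (mk H a).val = a :=
  Nat.mod_eq_of_lt (h.trans_eq H.hn.symm)

theorem mk_self (r : Rt D) : mk H r.val = r := Fin.ext (mk_val H (H.lt_n r))

/-- A fundamental index from a number. -/
def mkI (i : ℕ) : Fin D.rank := ⟨i % D.rank, Nat.mod_lt _ (H.l_pos.trans_eq H.hl.symm)⟩

theorem mkI_val {i : ℕ} (h : i < T.l) : (mkI H i).val = i := Nat.mod_eq_of_lt (h.trans_eq H.hl.symm)

/-- The set of a list. -/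
def toSet (D : ChevalleyDatum) (S : List ℕ) : Set (Rt D) := {r | r.val ∈ S}

theorem mem_toSet {S : List ℕ} {r : Rt D} : r ∈ toSet D S ↔ r.val ∈ S := Iff.rfl

theorem toSet_nil : toSet D [] = ∅ := by ext; simp [mem_toSet]

include H in
theorem toSet_cons {a : ℕ} (ha : a < T.n) (S : List ℕ) :
    toSet D (a :: S) = insert (mk H a) (toSet D S) := by
  ext r
  simp only [mem_toSet, List.mem_cons, Set.mem_insert_iff, Fin.ext_iff, mk_val H ha]

theorem toSet_sub {S S' : List ℕ} (h : subB S S' = true) : toSet D S ⊆ toSet D S' := fun r hr =>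
  (memB_iff S' _).1 (List.all_eq_true.1 h _ hr)

variable (F : Type*) [Field F]


theorem pres_of {S : List ℕ} {m : ℕ} (hm : m < T.n) (h : presB T S m = true) :
    (model H hc hsl F).Pres (toSet D S) (mk H m) := by
  intro r hr
  have := List.all_eq_true.1 h _ hr
  simp only [Bool.or_eq_true, Bool.and_eq_true, Bool.not_eq_eq_eq_not, Bool.not_true] at this
  rcases this with h1 | ⟨h1, h2⟩
  · exact Or.inl (show comB T r.val (mk H m).val = true by rw [mk_val H hm]; exact h1)
  · have hne : T.code (mk H m).val r.val ≠ 0 := by rw [mk_val H hm]; exact Nat.ne_of_beq_eq_false h1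
    refine Or.inr ⟨⟨_, tgt_lt' H hne⟩, ?_, ?_⟩
    · have := (memB_iff S _).1 h2
      rw [mem_toSet]
      simpa [mk_val H hm] using this
    · show sumB T r.val (mk H m).val (Fast.tgt (T.code (mk H m).val r.val)) = true
      simp [sumB, mk_val H hm, h1]

theorem shift_of {γ : ℕ} (hγ : γ < T.n) : ∀ (L : List (ℕ × ℕ)) (S : List ℕ),
    shiftB T γ S L = true →
      (model H hc hsl F).ShiftOK (mk H γ) (toSet D S) (L.map fun p => (mk H p.1, mk H p.2)) ∧
        RootSys.addL (toSet D S) (L.map fun p => (mk H p.1, mk H p.2)) = toSet D (addS S L)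
  | [], S, _ => ⟨trivial, rfl⟩
  | p :: L, S, h => by
    simp only [shiftB, Bool.and_eq_true, Nat.blt_eq] at h
    obtain ⟨⟨⟨⟨⟨⟨⟨h1, h2⟩, h3⟩, h4⟩, h5⟩, h6⟩, h7⟩, h8⟩ := h
    obtain ⟨ih, ih'⟩ := shift_of hγ L (p.1 :: S) h8
    rw [toSet_cons H h1] at ih ih'
    refine ⟨⟨?_, ?_, ?_, pres_of H hc hsl F h1 h6, pres_of H hc hsl F h2 h7, ih⟩, ih'⟩
    · show sumB T (mk H p.1).val (mk H p.2).val (mk H γ).val = true
      rwa [mk_val H h1, mk_val H h2, mk_val H hγ]
    · show comB T (mk H γ).val (mk H p.1).val = true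
      rwa [mk_val H h1, mk_val H hγ]
    · show comB T (mk H γ).val (mk H p.2).val = true
      rwa [mk_val H h2, mk_val H hγ]

include H in
theorem pprod_act : ∀ (L : List ℕ), (∀ i ∈ L, i < T.l) → ∀ r : Rt D,
    (H.core.pprod (L.map (mkI H)) r).val = act T L r.val
  | [], _, _ => rfl
  | i :: L, h, r => by
    rw [List.map_cons, H.core.pprod_cons, Equiv.Perm.mul_apply, act]
    show T.w (mkI H i).val (H.core.pprod (L.map (mkI H)) r).val = _
    rw [mkI_val H (h i (List.mem_cons_self ..)),
      pprod_act L (fun j hj => h j (List.mem_cons_of_mem _ hj)) r]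

include H in
theorem pprod_reverse : ∀ L : List (Fin D.rank), H.core.pprod L * H.core.pprod L.reverse = 1
  | [] => by simp [H.core.pprod_nil]
  | i :: L => by
    rw [List.reverse_cons, H.core.pprod_concat, H.core.pprod_cons, mul_assoc, ← mul_assoc (H.core.pprod L),
      pprod_reverse L, one_mul, H.core.sref_mul_self]

theorem carry_of {L S S' : List ℕ} (h : carryB T L S S' = true) :
    ∀ t ∈ toSet D S', ∃ s ∈ toSet D S,
      (model H hc hsl F).Cj (gw H F (L.map (mkI H))) s t := by
  simp only [carryB, Bool.and_eq_true, List.all_eq_true, Nat.blt_eq] at h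
  intro t ht
  have hL : ∀ i ∈ L.reverse, i < T.l := fun i hi => h.1 i (List.mem_reverse.1 hi)
  refine ⟨H.core.pprod (L.reverse.map (mkI H)) t, ?_, ?_⟩
  · rw [mem_toSet, pprod_act H L.reverse hL t]
    exact (memB_iff S _).1 (h.2 _ ht)
  · have e := cj_gw H hc hsl F (L.map (mkI H)) (H.core.pprod (L.reverse.map (mkI H)) t)
    rwa [← Equiv.Perm.mul_apply, List.map_reverse, pprod_reverse H, Equiv.Perm.one_apply,
      ← List.map_reverse] at e

theorem cj_of {L : List ℕ} {a b : ℕ} (hL : L.all (fun i => Nat.blt i T.l) = true) (ha : a < T.n)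
    (hb : b < T.n) (h : act T L a = b) :
    (model H hc hsl F).Cj (gw H F (L.map (mkI H))) (mk H a) (mk H b) := by
  have e := cj_gw H hc hsl F (L.map (mkI H)) (mk H a)
  convert e using 1
  refine Fin.ext ?_
  rw [pprod_act H L (fun i hi => Nat.le_of_ble_eq_true (List.all_eq_true.1 hL i hi)), mk_val H ha,
    mk_val H hb, h]

theorem torus_of {d : ℕ} (hd : d < T.n) (h : torB T d = true) (u : F) (hu : u ≠ 0) :
    ∃ t : ↥(D.group F), (∀ s, t * (model H hc hsl F).xe (mk H d) s =
        (model H hc hsl F).xe (mk H d) (u * s) * t) ∧ ∀ r, (model H hc hsl F).Cj t r r := by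
  simp only [torB, List.any_eq_true, List.mem_range, decide_eq_true_eq] at h
  obtain ⟨r, hr, h⟩ := h
  refine exists_torus H hc hsl F (r0 := mk H r) ?_ u hu
  rw [H.pr_val, mk_val H hr, mk_val H hd, h]

theorem clos_of {K : List ℕ} {d : ℕ} (hd : d < T.n) : ∀ (L : List (ℕ × ℕ × ℕ)) (Z : List ℕ),
    closB T K d Z L = true →
      (model H hc hsl F).ClosOK (toSet D K) (mk H d) (toSet D Z)
          (L.map fun t => (mk H t.1, mk H t.2.1, mk H t.2.2)) ∧
        RootSys.clos (toSet D Z) (L.map fun t => (mk H t.1, mk H t.2.1, mk H t.2.2)) =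
          toSet D (closS Z L)
  | [], Z, _ => ⟨trivial, rfl⟩
  | t :: L, Z, h => by
    simp only [closB, Bool.and_eq_true, Nat.blt_eq] at h
    obtain ⟨⟨⟨⟨⟨⟨h1, h2⟩, h3⟩, h4⟩, h5⟩, h6⟩, h7⟩ := h
    obtain ⟨ih, ih'⟩ := clos_of hd L (t.2.2 :: Z) h7
    rw [toSet_cons H h3] at ih ih'
    have keep : ∀ a, a < T.n → keepB T K d Z a = true →
        (model H hc hsl F).Keeps (toSet D K) (mk H d) (toSet D Z) (mk H a) := by
      intro a ha hk r hr
      have hr' : r.val ∈ d :: K := by
        rw [← toSet_cons H hd] at hr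
        exact hr
      have := List.all_eq_true.1 hk _ hr'
      simp only [Bool.or_eq_true, Bool.and_eq_true, Bool.not_eq_eq_eq_not, Bool.not_true] at this
      rcases this with h1 | ⟨h1, h2⟩
      · exact Or.inl (show comB T r.val (mk H a).val = true by rw [mk_val H ha]; exact h1)
      · have hne : T.code (mk H a).val r.val ≠ 0 := by rw [mk_val H ha]; exact Nat.ne_of_beq_eq_false h1
        refine Or.inr ⟨⟨_, tgt_lt' H hne⟩, ?_, ?_⟩
        · have := (memB_iff Z _).1 h2
          rw [mem_toSet]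
          simpa [mk_val H ha] using this
        · show sumB T r.val (mk H a).val (Fast.tgt (T.code (mk H a).val r.val)) = true
          simp [sumB, mk_val H ha, h1]
    refine ⟨⟨keep _ h1 h4, keep _ h2 h5, ?_, ih⟩, ih'⟩
    show sumB T (mk H t.1).val (mk H t.2.1).val (mk H t.2.2).val = true
    rwa [mk_val H h1, mk_val H h2, mk_val H h3]

end Cfsg.Agent.Lib.SimplyDeg48
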