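import Cfsg.Agent.Lib.SimplyDeg48.Sys

/-!
Repeated spreading, telescoping, the first slice and the comparison of adjacent slices.
-/

set_option autoImplicit false
set_option linter.unusedSectionVars false
set_option maxHeartbeats 400000

namespace Cfsg.Agent.Lib.SimplyDeg48.RootSys

open Module

variable {G : Type*} [Group G] {F : Type*} [Field F] {ι : Type*} (R : RootSys G F ι)

/-- Neighbour pairs may be used one after another. -/
def ShiftOK (γ : ι) : Set ι → List (ι × ι) → Prop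
  | _, [] => True
  | S, p :: L => R.Sum p.1 p.2 γ ∧ R.Com γ p.1 ∧ R.Com γ p.2 ∧ R.Pres S p.1 ∧ R.Pres S p.2 ∧
      ShiftOK γ (insert p.1 S) L

/-- The set after adding the first entries. -/
def addL : Set ι → List (ι × ι) → Set ι
  | S, [] => S
  | S, p :: L => addL (insert p.1 S) L

theorem mem_addL {x : ι} : ∀ (L : List (ι × ι)) (S : Set ι),
    x ∈ addL S L ↔ x ∈ S ∨ x ∈ L.map Prod.fst
  | [], S => by simp [addL]
  | p :: L, S => by
    rw [addL, mem_addL L, Set.mem_insert_iff, List.map_cons, List.mem_cons]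
    tauto

/-- The order of the telescoping sum, with a side condition on the slices. -/
def TeleOK (Good : Set ι → ι → Prop) : Set ι → List (ι × List (ι × ι)) → Prop
  | _, [] => True
  | S, p :: L => R.Pres S p.1 ∧ R.ShiftOK p.1 S p.2 ∧ Good (addL S p.2) p.1 ∧
      TeleOK Good (insert p.1 S) L

/-- The set after the telescoping sum. -/
def endS : Set ι → List (ι × List (ι × ι)) → Set ι
  | S, [] => S
  | S, p :: L => endS (insert p.1 S) L

theorem mem_endS {x : ι} : ∀ (L : List (ι × List (ι × ι))) (S : Set ι),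
    x ∈ endS S L ↔ x ∈ S ∨ x ∈ L.map Prod.fst
  | [], S => by simp [endS]
  | p :: L, S => by
    rw [endS, mem_endS L, Set.mem_insert_iff, List.map_cons, List.mem_cons]
    tauto

/-- `a` keeps the line cut out by K and the character on δ, once Z is known to act trivially. -/
def Keeps (K : Set ι) (δ : ι) (Z : Set ι) (a : ι) : Prop :=
  ∀ r ∈ insert δ K, R.Com r a ∨ ∃ c ∈ Z, R.Sum r a c

/-- Commutators of roots keeping the line. -/
def ClosOK (K : Set ι) (δ : ι) : Set ι → List (ι × ι × ι) → Prop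
  | _, [] => True
  | Z, t :: L => R.Keeps K δ Z t.1 ∧ R.Keeps K δ Z t.2.1 ∧ R.Sum t.1 t.2.1 t.2.2 ∧
      ClosOK K δ (insert t.2.2 Z) L

/-- The set after the closure. -/
def clos : Set ι → List (ι × ι × ι) → Set ι
  | Z, [] => Z
  | Z, t :: L => clos (insert t.2.2 Z) L

theorem mem_clos {x : ι} : ∀ (L : List (ι × ι × ι)) (Z : Set ι),
    x ∈ clos Z L ↔ x ∈ Z ∨ x ∈ L.map (fun t => t.2.2)
  | [], Z => by simp [clos]
  | p :: L, Z => by
    rw [clos, mem_clos L, Set.mem_insert_iff, List.map_cons, List.mem_cons]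
    tauto

variable {M : Type*} [AddCommGroup M] [Module ℂ M] [FiniteDimensional ℂ M] [Fintype F]
variable {ρ : Representation ℂ G M} {ν : AddChar F ℂ} (hν : ν ≠ 1)
include hν

theorem NN_shiftL {γ : ι} : ∀ (L : List (ι × ι)) (S : Set ι), R.ShiftOK γ S L →
    R.NN ρ ν γ (R.Fx ρ ν S) = Fintype.card F ^ L.length * R.NN ρ ν γ (R.Fx ρ ν (addL S L))
  | [], S, _ => by simp [addL]
  | p :: L, S, ⟨h1, h2, h3, h4, h5, h6⟩ => by
    rw [R.NN_shift hν h1 h2 h3 h4 h5, NN_shiftL L _ h6, List.length_cons, pow_succ', addL, mul_assoc]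

theorem tele (Good : Set ι → ι → Prop)
    (hG : ∀ T γ, Good T γ → Fintype.card F - 1 ≤ R.NN ρ ν γ (R.Fx ρ ν T)) :
    ∀ (L : List (ι × List (ι × ι))) (S : Set ι), R.TeleOK Good S L →
      (L.map fun p => (Fintype.card F - 1) * Fintype.card F ^ p.2.length).sum +
        finrank ℂ (R.Fx ρ ν (endS S L)) ≤ finrank ℂ (R.Fx ρ ν S)
  | [], S, _ => by simp only [endS, List.map_nil, List.sum_nil, zero_add]; exact le_rfl
  | p :: L, S, ⟨h1, h2, h3, h4⟩ => by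
    rw [List.map_cons, List.sum_cons, endS, R.finrank_Fx hν h1, R.NN_shiftL hν p.2 S h2, add_assoc,
      mul_comm (Fintype.card F - 1)]
    exact Nat.add_le_add (Nat.mul_le_mul_left _ (hG _ _ h3)) (tele Good hG L _ h4)

omit hν in
theorem eq_smul_of_line {P : Submodule ℂ M} (h : finrank ℂ P = 1) {w z : M} (hw : w ∈ P)
    (w0 : w ≠ 0) (hz : z ∈ P) : ∃ c : ℂ, z = c • w := by
  obtain ⟨c, hc⟩ := (finrank_eq_one_iff_of_nonzero' (⟨w, hw⟩ : P)
    (fun e => w0 (congrArg Subtype.val e))).1 h ⟨z, hz⟩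
  exact ⟨c, (congrArg Subtype.val hc).symm⟩

omit hν in
theorem map_line {K Z : Set ι} {δ a : ι} {v : F} (hka : R.Keeps K δ Z a) {z : M}
    (hz : z ∈ R.Fx ρ ν K ⊓ R.Eg ρ ν δ v) (hzZ : z ∈ R.Fx ρ ν Z) (u : F) :
    ρ (R.xe a u) z ∈ R.Fx ρ ν K ⊓ R.Eg ρ ν δ v := by
  have key : ∀ r ∈ insert δ K, ∀ w, z ∈ R.Eg ρ ν r w → ρ (R.xe a u) z ∈ R.Eg ρ ν r w := by
    intro r hr w hw
    rcases hka r hr with hc | ⟨c, hc, hs⟩
    · exact R.map_com hc hw u
    · obtain ⟨e, -, he⟩ := R.rel r a c hs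
      simpa using R.map_rel he hw ((R.mem_Eg_zero (ν := ν)).2 (R.mem_Fx.1 hzZ c hc)) u
  exact ⟨R.mem_Fx.2 fun r hr => (R.mem_Eg_zero (ν := ν)).1 (key r (Set.mem_insert_of_mem _ hr) 0
    ((R.mem_Eg_zero (ν := ν)).2 (R.mem_Fx.1 hz.1 r hr))), key δ (Set.mem_insert _ _) v hz.2⟩

omit hν in
theorem line_fixed {K : Set ι} {δ : ι} {v : F}
    (h1 : finrank ℂ (R.Fx ρ ν K ⊓ R.Eg ρ ν δ v : Submodule ℂ M) = 1) :
    ∀ (L : List (ι × ι × ι)) (Z : Set ι), R.ClosOK K δ Z L →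
      R.Fx ρ ν K ⊓ R.Eg ρ ν δ v ≤ R.Fx ρ ν Z → R.Fx ρ ν K ⊓ R.Eg ρ ν δ v ≤ R.Fx ρ ν (clos Z L)
  | [], Z, _, hZ => hZ
  | t :: L, Z, ⟨ha, hb, hs, hL⟩, hZ => by
    refine line_fixed h1 L _ hL fun z hz => R.mem_Fx.2 fun r hr s => ?_
    rcases hr with rfl | hr
    swap
    · exact R.mem_Fx.1 (hZ hz) r hr s
    by_cases z0 : z = 0
    · simp [z0]
    have sc : ∀ a, R.Keeps K δ Z a → ∀ u, ∃ c : ℂ, ρ (R.xe a u) z = c • z := fun a ha u =>
      eq_smul_of_line h1 hz z0 (R.map_line ha hz (hZ hz) u)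
    obtain ⟨e, he, hrel⟩ := R.rel _ _ _ hs
    obtain ⟨ca, hca⟩ := sc _ ha (s / e)
    obtain ⟨cb, hcb⟩ := sc _ hb 1
    have h2 : ρ (R.xe t.1 (s / e) * R.xe t.2.1 1) z = ρ (R.xe t.2.1 1 * R.xe t.1 (s / e)) z := by
      simp [map_mul, Module.End.mul_apply, hca, hcb, smul_smul, mul_comm]
    rw [hrel, mul_one, mul_div_cancel₀ _ he, map_mul, Module.End.mul_apply] at h2
    exact ExcDeg48.rep_inj ρ _ h2

/-- A non-zero moved part has at least one dimension for each non-trivial character. -/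
theorem pred_le_NN {δ : ι} {S : Set ι}
    (htor : ∀ u : F, u ≠ 0 → ∃ t : G, (∀ s, t * R.xe δ s = R.xe δ (u * s) * t) ∧ ∀ r, R.Cj t r r)
    (h : 0 < R.NN ρ ν δ (R.Fx ρ ν S)) : Fintype.card F - 1 ≤ R.NN ρ ν δ (R.Fx ρ ν S) := by
  classical
  rw [NN] at h ⊢
  obtain ⟨b, hb, hb0⟩ := Finset.exists_ne_zero_of_sum_ne_zero h.ne'
  have hcard : (Finset.univ.erase (0 : F)).card = Fintype.card F - 1 := by
    rw [Finset.card_erase_of_mem (Finset.mem_univ _), Finset.card_univ]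
  rw [← hcard, Finset.card_eq_sum_ones]
  refine Finset.sum_le_sum fun a ha => ?_
  obtain ⟨t, ht, ht'⟩ := htor (b / a) (div_ne_zero (Finset.mem_erase.1 hb).1 (Finset.mem_erase.1 ha).1)
  have ha0 := (Finset.mem_erase.1 ha).1
  have hb0' := (Finset.mem_erase.1 hb).1
  have hle : finrank ℂ (R.Fx ρ ν S ⊓ R.Eg ρ ν δ b : Submodule ℂ M) ≤
      finrank ℂ (R.Fx ρ ν S ⊓ R.Eg ρ ν δ a : Submodule ℂ M) := by
    refine ExcDeg48.rep_le ρ t fun z hz =>
      ⟨R.map_Cj_Fx (fun r hr => ⟨r, hr, ht' r⟩) hz.1, R.mem_Eg.2 fun s => ?_⟩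
    have : R.xe δ s * t = t * R.xe δ (a / b * s) := by
      rw [ht, show b / a * (a / b * s) = s by field_simp]
    rw [← Module.End.mul_apply, ← map_mul, this, map_mul, Module.End.mul_apply, R.mem_Eg.1 hz.2,
      map_smul, show b * (a / b * s) = a * s by field_simp]
  omega

/-- The first slice. -/
theorem start {δ δ' m' : ι} {L : List (ι × ι)} {C : List (ι × ι × ι)} {T : Set ι} {g : G} {B : ℕ}
    (hL : R.ShiftOK δ ∅ L) (h' : R.ShiftOK δ ∅ [(δ', m')])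
    (hg : R.Cj g δ δ') (hg' : R.Cj g δ' δ)
    (hC : R.ClosOK (addL ∅ L) δ (addL ∅ L) C) (hT : T ⊆ clos (addL ∅ L) C)
    (htor : ∀ u : F, u ≠ 0 → ∃ t : G, (∀ s, t * R.xe δ s = R.xe δ (u * s) * t) ∧ ∀ r, R.Cj t r r)
    (hne : ρ (R.xe δ 1) ≠ 1) {J : ℕ} (hJ : L.length = J + 1) (hk : finrank ℂ M < B)
    (hB : B ≤ 2 * (Fintype.card F - 1) * (Fintype.card F ^ (J + 1) + Fintype.card F ^ J)) :
    0 < R.NN ρ ν δ (R.Fx ρ ν T) := by
  classical
  have hq := Fintype.one_lt_card (α := F)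
  set q := Fintype.card F with hqd
  set C0 := R.NN ρ ν δ (R.Fx ρ ν (addL ∅ L)) with hC0
  set m := fun a : F => finrank ℂ (R.Fx ρ ν (addL ∅ L) ⊓ R.Eg ρ ν δ a : Submodule ℂ M) with hm
  have hN : R.NN ρ ν δ (R.Fx ρ ν ∅) = q ^ (J + 1) * C0 := by rw [R.NN_shiftL hν L ∅ hL, hJ]
  have hN' : R.NN ρ ν δ (R.Fx ρ ν ∅) = q * R.NN ρ ν δ (R.Fx ρ ν {δ'}) := by
    rw [R.NN_shiftL hν _ ∅ h']
    simp [addL, hqd]
  have h1 : R.NN ρ ν δ (R.Fx ρ ν {δ'}) = q ^ J * C0 := by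
    rw [hN, pow_succ', mul_assoc] at hN'
    exact (Nat.eq_of_mul_eq_mul_left (by omega) hN').symm
  have hle : R.NN ρ ν δ (R.Fx ρ ν {δ'}) ≤ R.NN ρ ν δ' (R.Fx ρ ν {δ}) :=
    R.NN_Fx_le_of_Cj hg fun t ht => ⟨δ', rfl, by rw [Set.mem_singleton_iff.1 ht]; exact hg'⟩
  have htot : finrank ℂ M = R.NN ρ ν δ (R.Fx ρ ν ∅) + finrank ℂ (R.Fx ρ ν {δ}) := by
    rw [← finrank_top ℂ M, ← R.Fx_empty (ρ := ρ) (ν := ν),
      R.finrank_Fx hν (r := δ) (fun r hr => hr.elim), insert_empty_eq]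
  have hcell : R.NN ρ ν δ' (R.Fx ρ ν {δ}) ≤ finrank ℂ (R.Fx ρ ν {δ}) := by
    have hp : R.Pres {δ} δ' := fun r hr => by
      rw [Set.mem_singleton_iff.1 hr]
      exact Or.inl h'.2.1
    rw [R.finrank_Fx hν hp]
    omega
  have hC2 : C0 < 2 * (q - 1) := by
    by_contra h
    have := Nat.mul_le_mul_left (q ^ (J + 1) + q ^ J) (Nat.le_of_not_lt h)
    rw [mul_comm _ (2 * (q - 1))] at this
    rw [add_mul] at this
    omega
  have hC1 : 0 < C0 := by
    rw [Nat.pos_iff_ne_zero]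
    intro h
    rw [hN, h, mul_zero, zero_add] at htot
    refine hne (LinearMap.ext fun z => ?_)
    have : R.Fx ρ ν {δ} = ⊤ := Submodule.eq_top_of_finrank_eq htot.symm
    exact R.mem_Fx.1 (this ▸ Submodule.mem_top : z ∈ R.Fx ρ ν {δ}) δ rfl 1
  have hconst : ∀ a : F, a ≠ 0 → m a = m 1 := by
    have key : ∀ a b : F, a ≠ 0 → b ≠ 0 → m a ≤ m b := by
      intro a b ha hb
      obtain ⟨t, ht, ht'⟩ := htor (a / b) (div_ne_zero ha hb)
      refine ExcDeg48.rep_le ρ t fun z hz =>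
        ⟨R.map_Cj_Fx (fun r hr => ⟨r, hr, ht' r⟩) hz.1, R.mem_Eg.2 fun s => ?_⟩
      have : R.xe δ s * t = t * R.xe δ (b / a * s) := by
        rw [ht, show a / b * (b / a * s) = s by field_simp]
      rw [← Module.End.mul_apply, ← map_mul, this, map_mul, Module.End.mul_apply, R.mem_Eg.1 hz.2,
        map_smul, show a * (b / a * s) = b * s by field_simp]
    exact fun a ha => le_antisymm (key a 1 ha one_ne_zero) (key 1 a one_ne_zero ha)
  have hCm : C0 = (q - 1) * m 1 := by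
    rw [hC0, NN, Finset.sum_congr rfl fun a ha => hconst a (Finset.mem_erase.1 ha).1, Finset.sum_const,
      Finset.card_erase_of_mem (Finset.mem_univ _), Finset.card_univ, smul_eq_mul]
  have hm1 : m 1 = 1 := by
    rw [hCm] at hC1 hC2
    rw [mul_comm 2] at hC2
    have := Nat.lt_of_mul_lt_mul_left hC2
    rcases Nat.eq_zero_or_pos (m 1) with h | h
    · rw [h, mul_zero] at hC1; omega
    · omega
  have hfix := R.line_fixed hm1 C (addL ∅ L) hC inf_le_left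
  have hle' : R.Fx ρ ν (addL ∅ L) ⊓ R.Eg ρ ν δ 1 ≤ R.Fx ρ ν T ⊓ R.Eg ρ ν δ 1 :=
    le_inf (hfix.trans (R.Fx_anti hT)) inf_le_right
  have h3 := Submodule.finrank_mono hle'
  have h4 : finrank ℂ (R.Fx ρ ν T ⊓ R.Eg ρ ν δ 1 : Submodule ℂ M) ≤ R.NN ρ ν δ (R.Fx ρ ν T) :=
    Finset.single_le_sum (f := fun a : F => finrank ℂ (R.Fx ρ ν T ⊓ R.Eg ρ ν δ a : Submodule ℂ M))
      (fun _ _ => Nat.zero_le _) (Finset.mem_erase.2 ⟨one_ne_zero, Finset.mem_univ _⟩)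
  simp only [hm] at hm1
  omega

/-- Adjacent fundamental roots have equally large slices. -/
theorem pair {a b c : ι} {S : Set ι} {ga gb : G}
    (ha1 : R.Cj ga b c) (ha2 : R.Cj ga c b) (haS : ∀ t ∈ S, ∃ s ∈ S, R.Cj ga s t)
    (hb1 : R.Cj gb a c) (hb2 : R.Cj gb c a) (hbS : ∀ t ∈ S, ∃ s ∈ S, R.Cj gb s t)
    (hab : R.ShiftOK c S [(a, b)]) (hba : R.ShiftOK c S [(b, a)])
    (pac : R.Pres (insert a S) c) (pbc : R.Pres (insert b S) c)
    (pA : R.Pres (insert c (insert a S)) b) (pB : R.Pres (insert c (insert b S)) a) :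
    R.NN ρ ν b (R.Fx ρ ν (insert c (insert a S))) = R.NN ρ ν a (R.Fx ρ ν (insert c (insert b S))) := by
  have ea : R.NN ρ ν a (R.Fx ρ ν S) = R.NN ρ ν c (R.Fx ρ ν S) :=
    le_antisymm (R.NN_Fx_le_of_Cj hb1 hbS) (R.NN_Fx_le_of_Cj hb2 hbS)
  have eb : R.NN ρ ν b (R.Fx ρ ν S) = R.NN ρ ν c (R.Fx ρ ν S) :=
    le_antisymm (R.NN_Fx_le_of_Cj ha1 haS) (R.NN_Fx_le_of_Cj ha2 haS)
  have sa := R.finrank_Fx (ρ := ρ) hν hab.2.2.2.1
  have sb := R.finrank_Fx (ρ := ρ) hν hba.2.2.2.1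
  have sca := R.finrank_Fx (ρ := ρ) hν pac
  have scb := R.finrank_Fx (ρ := ρ) hν pbc
  have ta := R.finrank_Fx (ρ := ρ) hν pA
  have tb := R.finrank_Fx (ρ := ρ) hν pB
  have qa := R.NN_shiftL (ρ := ρ) hν _ S hab
  have qb := R.NN_shiftL (ρ := ρ) hν _ S hba
  simp only [addL, List.length_cons, List.length_nil, zero_add, pow_one] at qa qb
  have e := Nat.eq_of_mul_eq_mul_left (Fintype.card_pos (α := F)) (qa.symm.trans qb)
  have hs : insert b (insert c (insert a S)) = insert a (insert c (insert b S)) := by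
    ext x; simp only [Set.mem_insert_iff]; tauto
  rw [hs] at ta
  simp only at sa sb
  omega

end Cfsg.Agent.Lib.SimplyDeg48.RootSys
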