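import Cfsg.Agent.Lib.ChevStructure.Order.Formula

/-!
One less than the claimed minimal degree of E₆(q) or E₈(q) does not divide the group order.
-/

set_option autoImplicit false
set_option maxRecDepth 100000
set_option linter.style.longLine false

namespace Cfsg.Agent.Lib.SimplyDeg48

open Cfsg.Agent.Lib.ChevStructure.Order

theorem peval_lt (q : ℤ) : ∀ R : List ℤ, (∀ c ∈ R, |c| < q) → |peval R q| < q ^ R.length
  | [], _ => by simp [peval]
  | c :: R, h => by
    have hc := abs_lt.1 (h c (List.mem_cons_self ..))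
    have hp := abs_lt.1 (peval_lt q R fun d hd => h d (List.mem_cons_of_mem _ hd))
    rw [peval, List.length_cons, pow_succ', abs_lt]
    constructor <;> nlinarith

theorem peval_ne (q : ℤ) : ∀ R : List ℤ, (∀ c ∈ R, |c| < q) → (∃ c ∈ R, c ≠ 0) → peval R q ≠ 0
  | [], _, h => by simp at h
  | c :: R, h, hne => by
    intro e
    rw [peval] at e
    have hc0 : c = 0 := by
      have hd : q ∣ c := ⟨-peval R q, by linarith⟩
      exact Int.eq_zero_of_abs_lt_dvd hd (h c (List.mem_cons_self ..))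
    subst hc0
    obtain ⟨d, hd, hd0⟩ := hne
    rcases List.mem_cons.1 hd with rfl | hd
    · exact hd0 rfl
    rw [zero_add, mul_eq_zero] at e
    rcases e with e | e
    · have := h 0 (List.mem_cons_self ..); simp [e] at this
    · exact peval_ne q R (fun x hx => h x (List.mem_cons_of_mem _ hx)) ⟨d, hd, hd0⟩ e

/-- The product of x^d - 1 as a list. -/
def degPoly (degs : List ℕ) : List ℤ := (degs.map fun d => padd [-1] (mono d)).foldr pmul [1]

theorem peval_degPoly (degs : List ℕ) (x : ℤ) :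
    peval (degPoly degs) x = (degs.map fun d => x ^ d - 1).prod := by
  rw [degPoly, peval_foldr_pmul, List.map_map]
  refine congrArg List.prod (List.map_congr_left fun d _ => ?_)
  simp only [Function.comp_apply, peval_padd, peval_mono, peval]
  ring

/-- The checks: P = Q k + R with small R, and a direct check below 64. -/
def ndB (degs : List ℕ) (k Q R : List ℤ) : Bool :=
  (padd (degPoly degs) ((padd (pmul Q k) R).map ((-1) * ·))).all (fun c => decide (c = 0)) &&
  R.all (fun c => decide (|c| < 64)) && R.any (fun c => decide (c ≠ 0)) &&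
  (List.range 62).all (fun j => decide (peval (degPoly degs) (j + 2) % peval k (j + 2) ≠ 0))

theorem not_dvd {degs : List ℕ} {k Q R : List ℤ} (h : ndB degs k Q R = true) {q : ℕ} (hq : 2 ≤ q)
    (hk : (q : ℤ) ^ R.length ≤ peval k q) :
    ¬ peval k q ∣ (degs.map fun d => (q : ℤ) ^ d - 1).prod := by
  simp only [ndB, Bool.and_eq_true, List.all_eq_true, List.any_eq_true, decide_eq_true_eq] at h
  obtain ⟨⟨⟨hid, hR⟩, hne⟩, hsmall⟩ := h
  intro hd
  rw [← peval_degPoly] at hd
  by_cases hq64 : q < 64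
  · refine hsmall (q - 2) (List.mem_range.2 (by omega)) ?_
    rw [show ((q - 2 : ℕ) : ℤ) + 2 = (q : ℤ) by omega]
    exact Int.emod_eq_zero_of_dvd hd
  have e := peval_zero (padd (degPoly degs) ((padd (pmul Q k) R).map ((-1) * ·))) q
    (by simp only [List.all_eq_true, decide_eq_true_eq]; exact hid)
  rw [peval_padd, peval_map, peval_padd, peval_pmul] at e
  have hlt : ∀ c ∈ R, |c| < (q : ℤ) := fun c hc => lt_of_lt_of_le (hR c hc) (by omega)
  have hdR : peval k q ∣ peval R q := by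
    have : peval R q = peval (degPoly degs) q - peval Q q * peval k q := by linarith
    rw [this]
    exact dvd_sub hd (dvd_mul_left _ _)
  exact peval_ne q R hlt hne (Int.eq_zero_of_abs_lt_dvd hdR ((peval_lt q R hlt).trans_le hk))

/-- One less than the degree bound of E₆. -/
def kE6 : List ℤ := [-1, 1, 0, 0, 1, 1, 0, 1, 1, 0, 0, 1]

/-- One less than the degree bound of E₈. -/
def kE8 : List ℤ :=
  [-1, 1, 0, 0, 0, 0, 0, 1, 0, 0, 0, 1, 0, 1, 0, 0, 0, 1, 0, 1, 0, 0, 0, 1, 0, 0, 0, 0, 0, 1]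

/-- The quotient for E₆. -/
def QE6 : List ℤ := [-27, -15, 4, 10, 19, 11, 6, -3, -9, -8, -5, -2, 2, 6, 3, 3, -1, -1, -3, -3, 0, 0, 1, 2, 2, 0, 0, -1, -1, -1, 0, 1]

/-- The remainder for E₆. -/
def RE6 : List ℤ := [-26, 12, 18, 6, 36, 33, 5, 5, 7, -19, -27]

/-- The quotient for E₈. -/
def QE8 : List ℤ := [-4, 11, -15, -8, -7, 28, -7, 2, 3, 22, 9, -7, 10, 8, 11, -13, 3, 1, 1, -10, -7, 2, -5, -6, -9, 7, -5, -2, -3, 4, 4, -2, 3, 2, 8, -2, 3, 1, 4, -1, -3, 3, -1, -1, -5, 0, -1, 0, -3, -2, 1, 0, -1, 0, 3, -1, 1, 2, 2, 0, -1, 1, 1, 1, -2, 0, 0, 0, -1, -1, 1, -2, 0, 0, 0, -1, 0, 0, 0, 1, 0, 0, 0, 1, 0, 1, 0, 0, 0, 0, 0, 0, 0, -1, 0, 0, 0, -1, 0, 1]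

/-- The remainder for E₈. -/
def RE8 : List ℤ := [-3, 15, -27, 7, 1, 35, -35, 13, -11, 34, -4, -5, -23, 24, -2, -5, -25, 7, -35, 2, -31, 8, -28, -5, -48, 13, -10, -9, -35]

theorem ndE6 : ndB [2, 5, 6, 8, 9, 12] kE6 QE6 RE6 = true := by decide +kernel

theorem ndE8 : ndB [2, 8, 12, 14, 18, 20, 24, 30] kE8 QE8 RE8 = true := by decide +kernel

end Cfsg.Agent.Lib.SimplyDeg48
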