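import Cfsg.Agent.Lib.SimplyDeg48.Main
import Cfsg.Agent.Lib.SimplyDeg48.NotDvd
import Cfsg.Agent.Lib.Characters.Degree
import Cfsg.Agent.Lib.MinDegree.Basic

/-!
From the certificate bound to the degree of an irreducible representation.
-/

set_option autoImplicit false
set_option linter.unusedSectionVars false
set_option maxHeartbeats 400000

namespace Cfsg.Agent.Lib.SimplyDeg48

open Module Cfsg.Lie Cfsg.Agent.Lib.ChevStructure

theorem cast_degs {q : ℕ} (hq : 1 ≤ q) : ∀ degs : List ℕ,
    (((degs.map fun d => q ^ d - 1).prod : ℕ) : ℤ) = (degs.map fun d => (q : ℤ) ^ d - 1).prod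
  | [] => rfl
  | d :: degs => by
    rw [List.map_cons, List.map_cons, List.prod_cons, List.prod_cons, Nat.cast_mul, cast_degs hq degs,
      Nat.cast_sub (Nat.one_le_pow _ _ hq), Nat.cast_pow, Nat.cast_one]

/-- One less than the bound is not a divisor of the order. -/
theorem not_dvd_order {q m A N : ℕ} {degs : List ℕ} {k Q R : List ℤ} (hq : 2 ≤ q)
    (h : ndB degs k Q R = true) (hR : (q : ℤ) ^ R.length ≤ Order.peval k q)
    (hm : (m : ℤ) = Order.peval k q) (hdvd : m ∣ A) (hA : A ∣ q ^ N * (degs.map fun d => q ^ d - 1).prod)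
    {w : ℤ} (hw : Order.peval k q = (q : ℤ) * w - 1) : False := by
  have hd : (m : ℤ) ∣ ((q : ℤ) ^ N * (degs.map fun d => (q : ℤ) ^ d - 1).prod) := by
    have h0 := Int.natCast_dvd_natCast.2 (hdvd.trans hA)
    rwa [Nat.cast_mul, Nat.cast_pow, cast_degs (by omega)] at h0
  rw [hm] at hd
  have hc : IsCoprime (Order.peval k q) ((q : ℤ) ^ N) :=
    IsCoprime.pow_right ⟨-1, w, by rw [hw]; ring⟩
  exact not_dvd h hq hR (hc.dvd_of_dvd_mul_left hd)

variable {T : Fast} {D : ChevalleyDatum} (H : Fast.Certified T D) (hc : CommOK H.core)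
  (hsl : slB T = true) {F : Type*} [Field F] [Fintype F]

include hc hsl in
theorem degree_of_cert (hs : IsSimpleGroup ↥(D.group F)) (c : Cert) (hok : c.ok T = true) {k B : ℕ}
    (ρ : Representation ℂ ↥(D.group F) (Fin k → ℂ)) (hρ : ρ.IsIrreducible) (hk : 2 ≤ k) (hkB : k < B)
    (hB : B ≤ 2 * (Fintype.card F - 1) *
      (Fintype.card F ^ c.L0.length + Fintype.card F ^ (c.L0.length - 1))) :
    c.total (Fintype.card F) ≤ k ∧ k ∣ Nat.card ↥(D.group F) := by
  classical
  haveI := hρ
  refine ⟨?_, ?_⟩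
  · have hfr := Module.finrank_fin_fun (R := ℂ) (n := k)
    rw [← hfr]
    refine lower_of_cert H hc hsl F (ρ := ρ) c hok (fun r h => ?_) (B := B) (by rw [hfr]; exact hkB) hB
    rcases Subgroup.Normal.eq_bot_or_eq_top (inferInstance : ρ.ker.Normal) with hb | ht
    · have h1 : gx H F r 1 ∈ ρ.ker := h
      rw [hb, Subgroup.mem_bot] at h1
      exact one_ne_zero (H.core.X_eq_one (congrArg Subtype.val h1))
    · have := MinDegree.finrank_le_one_of_trivial hρ fun g => (ht ▸ Subgroup.mem_top g : g ∈ ρ.ker)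
      rw [hfr] at this
      omega
  · have : Finite ↥(D.group F) := Finite.of_injective _ Subtype.val_injective
    have h := Characters.Degree.finrank_dvd_card ρ
    rwa [Module.finrank_fin_fun] at h

end Cfsg.Agent.Lib.SimplyDeg48
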