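import Cfsg.Agent.Lib.OrthDeg48.Main
import Cfsg.Agent.Lib.Schur.SteinbergSLn
import Mathlib.RepresentationTheory.Invariants

/-!
A subspace on which root groups of type A act non-trivially is at least as large as a non-trivial
representation of the special linear group.
-/

set_option autoImplicit false
set_option linter.unusedSectionVars false
set_option maxHeartbeats 400000

namespace Cfsg.Agent.Lib.SimplyDeg48

open Module Cfsg.Agent.Lib.Schur.SteinbergSLn Cfsg.Agent.Lib.SLDeg48 Cfsg.Agent.Lib.OrthDeg48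

theorem sl_bound {G : Type*} [Group G] {F : Type*} [Field F] [Fintype F] {M : Type*}
    [AddCommGroup M] [Module ℂ M] [FiniteDimensional ℂ M] (ρ : Representation ℂ G M) {N : ℕ}
    (hN : 5 ≤ N) {X : Fin N → Fin N → F → G} (RX : IsSLnRel X) (W : Submodule ℂ M)
    (hW : ∀ i j, i ≠ j → ∀ t, ∀ z ∈ W, ρ (X i j t) z ∈ W)
    (hnt : ∃ (i j : Fin N) (t : F) (z : M), i ≠ j ∧ z ∈ W ∧ ρ (X i j t) z ≠ z) :
    ∑ i ∈ Finset.range (N - 1), Fintype.card F ^ (i + 1) ≤ finrank ℂ W := by
  classical
  obtain ⟨e, he⟩ := exists_presentation (F := F) N (by omega)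
  let φ₀ := PresentedGroup.toGroup (rels_eval RX)
  have hW' : ∀ x : PresentedGroup (rels N F), ∀ z ∈ W, ρ (φ₀ x) z ∈ W := by
    intro x
    have hx : x ∈ Subgroup.closure (Set.range (PresentedGroup.of (rels := rels N F))) := by
      rw [PresentedGroup.closure_range_of]; exact Subgroup.mem_top x
    suffices h : (∀ z ∈ W, ρ (φ₀ x) z ∈ W) ∧ ∀ z ∈ W, ρ (φ₀ x⁻¹) z ∈ W from h.1
    induction hx using Subgroup.closure_induction with
    | mem y hy =>
      obtain ⟨⟨⟨⟨i, j⟩, hij⟩, t⟩, rfl⟩ := hy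
      refine ⟨fun z hz => ?_, fun z hz => ?_⟩
      · show ρ (φ₀ (PresentedGroup.of _)) z ∈ W
        rw [PresentedGroup.toGroup.of]
        exact hW i j hij t z hz
      · show ρ (φ₀ (PresentedGroup.of _)⁻¹) z ∈ W
        rw [map_inv, PresentedGroup.toGroup.of, ← x_neg RX hij]
        exact hW i j hij _ z hz
    | one => simp
    | mul a b _ _ ha hb =>
      refine ⟨fun z hz => ?_, fun z hz => ?_⟩
      · rw [map_mul, map_mul, Module.End.mul_apply]; exact ha.1 _ (hb.1 z hz)
      · rw [mul_inv_rev, map_mul, map_mul, Module.End.mul_apply]; exact hb.2 _ (ha.2 z hz)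
    | inv a _ ha => exact ⟨ha.2, by rw [inv_inv]; exact ha.1⟩
  let φ : SL' N F →* G := φ₀.comp e.symm.toMonoidHom
  let σ := subRep (ρ.comp φ) W fun g => hW' (e.symm g)
  haveI : Fintype (SL' N F) := Fintype.ofFinite _
  haveI : Invertible (Fintype.card (SL' N F) : ℂ) :=
    invertibleOfNonzero (Nat.cast_ne_zero.2 Fintype.card_ne_zero)
  let P := σ.averageMap
  have hP : LinearMap.IsProj σ.invariants P := σ.isProj_averageMap
  have hcomm : ∀ g z, P (σ g z) = P z := fun g z => by
    show σ.asAlgebraHom (GroupAlgebra.average ℂ (SL' N F)) (σ g z) = σ.asAlgebraHom _ z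
    rw [← Representation.asAlgebraHom_single_one, ← Module.End.mul_apply,
      ← map_mul σ.asAlgebraHom, GroupAlgebra.mul_average_right]
  let W' := LinearMap.ker P
  have hW'' : ∀ g, ∀ z ∈ W', σ g z ∈ W' := fun g z hz => by
    rw [LinearMap.mem_ker] at hz ⊢
    rw [hcomm, hz]
  obtain ⟨i, j, t, z, hij, hz, hzne⟩ := hnt
  have hpos : 0 < finrank ℂ W' := by
    rw [Nat.pos_iff_ne_zero, Ne, Submodule.finrank_eq_zero]
    intro hb
    refine hzne ?_
    have hfix : P ⟨z, hz⟩ = ⟨z, hz⟩ := by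
      refine (sub_eq_zero.1 ((Submodule.eq_bot_iff _).1 hb _ (LinearMap.mem_ker.2 ?_)) : P ⟨z, hz⟩ = _)
      rw [map_sub, hP.map_id _ (hP.map_mem _), sub_self]
    have h := hP.map_mem ⟨z, hz⟩
    rw [hfix] at h
    have h2 := congrArg Subtype.val (h (Matrix.SpecialLinearGroup.transvection hij t))
    change ρ (φ₀ (e.symm (Matrix.SpecialLinearGroup.transvection hij t))) z = z at h2
    rwa [← he ⟨(i, j), hij⟩ t, MulEquiv.symm_apply_apply, PresentedGroup.toGroup.of] at h2
  have h := bound_of_no_fixed (by omega)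
    ⟨by simp; omega, by simp; omega, by simp; omega, by simp; omega⟩ (subRep σ W' hW'') hpos
    fun w hw => Subtype.ext <| by
      have h1 : P w.1 = w.1 := hP.map_id _ fun g => congrArg Subtype.val (hw g)
      rw [← h1]
      exact LinearMap.mem_ker.1 w.2
  exact h.trans (Submodule.finrank_le W')

end Cfsg.Agent.Lib.SimplyDeg48
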