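import Cfsg.Agent.Lib.SimplyDeg48.Checker
import Cfsg.Agent.Lib.SimplyDeg48.SLPart
import Mathlib.Analysis.Complex.Polynomial.Basic
import Mathlib.GroupTheory.FiniteAbelian.Duality

/-!
The lower bound for the degree from a combinatorial certificate.
-/

set_option autoImplicit false
set_option linter.unusedSectionVars false
set_option maxHeartbeats 400000

namespace Cfsg.Agent.Lib.SimplyDeg48

open Module Cfsg.Lie Cfsg.Agent.Lib.ChevStructure

/-- The positive roots without the fundamental root i. -/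
def exc (T : Fast) (i : ℕ) : List ℕ :=
  (List.range T.n).filter fun r => Nat.ble T.half r && !Nat.beq r (T.p i)

/-- The positive roots without three given ones. -/
def exc3 (T : Fast) (a b c : ℕ) : List ℕ :=
  (List.range T.n).filter fun r =>
    Nat.ble T.half r && !Nat.beq r a && !Nat.beq r b && !Nat.beq r c

/-- The slices of adjacent fundamental roots i, j with sum c are equal. -/
def pairB (T : Fast) (i j c : ℕ) : Bool :=
  let a := T.p i
  let b := T.p j
  let S := exc3 T a b c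
  Nat.blt i T.l && Nat.blt j T.l && Nat.blt c T.n &&
  Nat.beq (T.w i b) c && Nat.beq (T.w i c) b && carryB T [i] S S &&
  Nat.beq (T.w j a) c && Nat.beq (T.w j c) a && carryB T [j] S S &&
  shiftB T c S [(a, b)] && shiftB T c S [(b, a)] &&
  presB T (a :: S) c && presB T (b :: S) c && presB T (c :: a :: S) b && presB T (c :: b :: S) a &&
  subB (exc T j) (c :: a :: S) && subB (c :: a :: S) (exc T j) &&
  subB (exc T i) (c :: b :: S) && subB (c :: b :: S) (exc T i)

/-- The slices reached from the known ones. -/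
def pairsB (T : Fast) : List ℕ → List (ℕ × ℕ × ℕ) → Bool
  | _, [] => true
  | known, p :: L => known.contains p.1 && pairB T p.1 p.2.1 p.2.2 && pairsB T (p.2.1 :: known) L

/-- The fundamental roots reached. -/
def knownS : List ℕ → List (ℕ × ℕ × ℕ) → List ℕ
  | known, [] => known
  | known, p :: L => knownS (p.2.1 :: known) L

/-- A row of the telescoping sum: root, neighbour pairs, fundamental root and word. -/
abbrev Row : Type := ℕ × List (ℕ × ℕ) × ℕ × List ℕ

/-- The order of the telescoping sum. -/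
def rowsB (T : Fast) (known : List ℕ) : List ℕ → List Row → Bool
  | _, [] => true
  | S, r :: L => Nat.blt r.1 T.n && presB T S r.1 && shiftB T r.1 S r.2.1 &&
      known.contains r.2.2.1 && Nat.beq (act T r.2.2.2 (T.p r.2.2.1)) r.1 &&
      carryB T r.2.2.2 (exc T r.2.2.1) (addS S r.2.1) && rowsB T known (r.1 :: S) L

/-- The list after the sum. -/
def endL : List ℕ → List Row → List ℕ
  | S, [] => S
  | S, r :: L => endL (r.1 :: S) L

/-- The certificate. -/
structure Cert where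
  iδ : ℕ
  L0 : List (ℕ × ℕ)
  d' : ℕ
  m' : ℕ
  gword : List ℕ
  clos : List (ℕ × ℕ × ℕ)
  pairs : List (ℕ × ℕ × ℕ)
  rows : List Row
  N : ℕ
  aRoot : List (List ℕ)
  aSign : List (List Bool)
  i0 : ℕ

namespace Cert

variable (c : Cert)

/-- A root of the subsystem of type A. -/
def ar (i j : ℕ) : ℕ := (c.aRoot.getD i []).getD j 0

/-- Its sign. -/
def asg (i j : ℕ) : ℤ := cond ((c.aSign.getD i []).getD j true) 1 (-1)

/-- The checks on the first slice. -/
def startB (T : Fast) : Bool :=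
  let d := T.p c.iδ
  let K := addS [] c.L0
  Nat.blt c.iδ T.l && shiftB T d [] c.L0 && shiftB T d [] [(c.d', c.m')] && Nat.blt 0 c.L0.length &&
  c.gword.all (fun i => Nat.blt i T.l) &&
  Nat.beq (act T c.gword d) c.d' && Nat.beq (act T c.gword c.d') d &&
  closB T K d K c.clos && subB (exc T c.iδ) (closS K c.clos)

/-- The checks on the fundamental roots. -/
def simplesB (T : Fast) : Bool :=
  pairsB T [c.iδ] c.pairs && allLt T.l (fun i => torB T (T.p i))

/-- The checks on the subsystem of type A. -/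
def typeAB (T : Fast) : Bool :=
  let E := endL [] c.rows
  allLt c.N (fun i => allLt c.N fun j => Nat.beq i j ||
    (Nat.blt (c.ar i j) T.n && presB T E (c.ar i j))) &&
  allLt c.N (fun i => allLt c.N fun j => allLt c.N fun k => allLt c.N fun l =>
    Nat.beq i j || Nat.beq k l || Nat.beq i l || Nat.beq j k || comB T (c.ar i j) (c.ar k l)) &&
  allLt c.N (fun i => allLt c.N fun j => allLt c.N fun l =>
    Nat.beq i j || Nat.beq j l || Nat.beq i l ||
      (sumB T (c.ar i j) (c.ar j l) (c.ar i l) && comB T (c.ar i l) (c.ar i j) &&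
        comB T (c.ar i l) (c.ar j l) &&
        decide (-Fast.nn (T.code (c.ar j l) (c.ar i j)) * c.asg i j * c.asg j l = c.asg i l))) &&
  Nat.ble 5 c.N && Nat.blt c.i0 T.l && (knownS [c.iδ] c.pairs).contains c.i0 &&
  Nat.beq (c.ar 0 1) (T.p c.i0) && subB E (exc T c.i0)

/-- All the checks. -/
def ok (T : Fast) : Bool :=
  c.startB T && c.simplesB T && rowsB T (knownS [c.iδ] c.pairs) [] c.rows && c.typeAB T

/-- The bound it gives. -/
def total (q : ℕ) : ℕ :=
  (c.rows.map fun r => (q - 1) * q ^ r.2.1.length).sum + ∑ i ∈ Finset.range (c.N - 1), q ^ (i + 1)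

end Cert

variable {T : Fast} {D : ChevalleyDatum} (H : Fast.Certified T D) (hc : CommOK H.core)
  (hsl : slB T = true) (F : Type*) [Field F] [Fintype F]
variable {M : Type*} [AddCommGroup M] [Module ℂ M] [FiniteDimensional ℂ M]
  {ρ : Representation ℂ ↥(D.group F) M} {ν : AddChar F ℂ} (hν : ν ≠ 1)

/-- The slice of a fundamental root is non-trivial. -/
def Big (i : ℕ) : Prop :=
  i < T.l ∧ Fintype.card F - 1 ≤ (model H hc hsl F).NN ρ ν (mk H (T.p i))
    ((model H hc hsl F).Fx ρ ν (toSet D (exc T i)))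

include H in
theorem p_lt {i : ℕ} (hi : i < T.l) : T.p i < T.n := (H.simple_spec hi).1

theorem toSet_eq {S S' : List ℕ} (h1 : subB S S' = true) (h2 : subB S' S = true) :
    toSet D S = toSet D S' := Set.Subset.antisymm (toSet_sub h1) (toSet_sub h2)

include hν

theorem big_pairs : ∀ (L : List (ℕ × ℕ × ℕ)) (known : List ℕ), pairsB T known L = true →
    (∀ i ∈ known, Big H hc hsl F (ρ := ρ) (ν := ν) i) →
    ∀ i ∈ knownS known L, Big H hc hsl F (ρ := ρ) (ν := ν) i
  | [], _, _, hk => hk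
  | (i, j, c) :: L, known, h, hk => by
    simp only [pairsB, pairB, Bool.and_eq_true, List.contains_iff_mem, Nat.blt_eq] at h
    obtain ⟨⟨hi0, hp⟩, hrest⟩ := h
    obtain ⟨⟨⟨⟨⟨⟨⟨⟨⟨⟨⟨⟨⟨⟨⟨⟨⟨⟨hi, hj⟩, hcn⟩, w1⟩, w2⟩, hca⟩, w3⟩, w4⟩, hcb⟩, hab⟩, hba⟩, p1⟩, p2⟩, p3⟩, p4⟩,
      e1⟩, e2⟩, e3⟩, e4⟩ := hp
    refine big_pairs L (j :: known) hrest fun x hx => ?_
    rcases List.mem_cons.1 hx with rfl | hx
    swap
    · exact hk x hx
    refine ⟨hj, ?_⟩
    have ha := p_lt H hi
    have hb := p_lt H hj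
    have hwi : ∀ k, k < T.l → [k].all (fun i => Nat.blt i T.l) = true := fun k hk => by simp [hk]
    have sab := shift_of H hc hsl F hcn _ _ hab
    have sba := shift_of H hc hsl F hcn _ _ hba
    have := (model H hc hsl F).pair (ρ := ρ) hν
      (cj_of H hc hsl F (hwi i hi) hb hcn (Nat.eq_of_beq_eq_true w1))
      (cj_of H hc hsl F (hwi i hi) hcn hb (Nat.eq_of_beq_eq_true w2))
      (carry_of H hc hsl F hca)
      (cj_of H hc hsl F (hwi x hj) ha hcn (Nat.eq_of_beq_eq_true w3))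
      (cj_of H hc hsl F (hwi x hj) hcn ha (Nat.eq_of_beq_eq_true w4))
      (carry_of H hc hsl F hcb) sab.1 sba.1
      (by rw [← toSet_cons H ha]; exact pres_of H hc hsl F hcn p1)
      (by rw [← toSet_cons H hb]; exact pres_of H hc hsl F hcn p2)
      (by rw [← toSet_cons H ha, ← toSet_cons H hcn]; exact pres_of H hc hsl F hb p3)
      (by rw [← toSet_cons H hb, ← toSet_cons H hcn]; exact pres_of H hc hsl F ha p4)
    rw [← toSet_cons H ha, ← toSet_cons H hcn, ← toSet_cons H hb, ← toSet_cons H hcn,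
      toSet_eq e2 e1, toSet_eq e4 e3] at this
    rw [this]
    exact (hk i hi0).2

theorem tele_of {known : List ℕ} (hk : ∀ i ∈ known, Big H hc hsl F (ρ := ρ) (ν := ν) i) :
    ∀ (L : List Row) (S : List ℕ), rowsB T known S L = true →
      (model H hc hsl F).TeleOK
          (fun A γ => Fintype.card F - 1 ≤ (model H hc hsl F).NN ρ ν γ ((model H hc hsl F).Fx ρ ν A))
          (toSet D S) (L.map fun r => (mk H r.1, r.2.1.map fun p => (mk H p.1, mk H p.2))) ∧
        RootSys.endS (toSet D S)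
            (L.map fun r => (mk H r.1, r.2.1.map fun p => (mk H p.1, mk H p.2))) =
          toSet D (endL S L)
  | [], S, _ => ⟨trivial, rfl⟩
  | r :: L, S, h => by
    simp only [rowsB, Bool.and_eq_true, List.contains_iff_mem, Nat.blt_eq] at h
    obtain ⟨⟨⟨⟨⟨⟨h1, h2⟩, h3⟩, h4⟩, h5⟩, h6⟩, h7⟩ := h
    obtain ⟨ih, ih'⟩ := tele_of hk L (r.1 :: S) h7
    rw [toSet_cons H h1] at ih ih'
    obtain ⟨hs, hs'⟩ := shift_of H hc hsl F h1 r.2.1 S h3
    refine ⟨⟨pres_of H hc hsl F h1 h2, hs, ?_, ih⟩, ih'⟩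
    simp only [hs']
    refine (hk _ h4).2.trans ((model H hc hsl F).NN_Fx_le_of_Cj ?_ (carry_of H hc hsl F h6))
    refine cj_of H hc hsl F ?_ (p_lt H (hk _ h4).1) h1 (Nat.eq_of_beq_eq_true h5)
    simp only [carryB, Bool.and_eq_true] at h6
    exact h6.1

omit hν

include hc hsl in
theorem lower_of_cert (c : Cert) (h : c.ok T = true) (hne : ∀ r, ρ (gx H F r 1) ≠ 1) {B : ℕ}
    (hk : finrank ℂ M < B)
    (hB : B ≤ 2 * (Fintype.card F - 1) *
      (Fintype.card F ^ c.L0.length + Fintype.card F ^ (c.L0.length - 1))) :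
    c.total (Fintype.card F) ≤ finrank ℂ M := by
  classical
  have hnt : Nontrivial (AddChar F ℂ) := by
    rw [← Fintype.one_lt_card_iff_nontrivial, AddChar.card_eq]
    exact Fintype.one_lt_card
  obtain ⟨ν, hν⟩ := exists_ne (1 : AddChar F ℂ)
  simp only [Cert.ok, Cert.startB, Cert.simplesB, Cert.typeAB, Bool.and_eq_true, Nat.blt_eq,
    List.contains_iff_mem, allLt_iff] at h
  obtain ⟨⟨⟨⟨⟨⟨⟨⟨⟨⟨⟨hiδ, hsL⟩, hsd⟩, hLpos⟩, hgw⟩, hg1⟩, hg2⟩, hcl⟩, hsub⟩, hp, htor⟩, hrows⟩,
    ⟨⟨⟨⟨⟨⟨⟨hApres, hAcom⟩, hAch⟩, hN⟩, hi0⟩, hi0k⟩, hA01⟩, hEsub⟩⟩ := h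
  set R := model H hc hsl F with hR
  have hd := p_lt H hiδ
  obtain ⟨hL, hLs⟩ := shift_of H hc hsl F hd _ _ hsL
  obtain ⟨h', -⟩ := shift_of H hc hsl F hd _ _ hsd
  obtain ⟨hC, hCs⟩ := clos_of H hc hsl F (K := addS [] c.L0) hd _ _ hcl
  rw [toSet_nil] at hL hLs h'
  have hd' : c.d' < T.n := by
    simp only [shiftB, Bool.and_eq_true, Nat.blt_eq] at hsd
    exact hsd.1.1.1.1.1.1.1
  obtain ⟨J, hJ⟩ : ∃ J, c.L0.length = J + 1 := ⟨c.L0.length - 1, by omega⟩
  rw [hJ, Nat.add_sub_cancel] at hB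
  have hstart : 0 < R.NN ρ ν (mk H (T.p c.iδ)) (R.Fx ρ ν (toSet D (exc T c.iδ))) := by
    refine R.start (ρ := ρ) hν (T := toSet D (exc T c.iδ)) (g := gw H F (c.gword.map (mkI H)))
      (L := c.L0.map fun p => (mk H p.1, mk H p.2))
      (C := c.clos.map fun t => (mk H t.1, mk H t.2.1, mk H t.2.2))
      hL h' (cj_of H hc hsl F hgw hd hd' (Nat.eq_of_beq_eq_true hg1))
      (cj_of H hc hsl F hgw hd' hd (Nat.eq_of_beq_eq_true hg2)) ?_ ?_
      (torus_of H hc hsl F hd (htor _ hiδ)) (hne _) (J := J) (by rw [List.length_map, hJ]) hk hB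
    · rw [hLs]; exact hC
    · rw [hLs, hCs]; exact toSet_sub hsub
  have hbig0 : Big H hc hsl F (ρ := ρ) (ν := ν) c.iδ :=
    ⟨hiδ, R.pred_le_NN hν (torus_of H hc hsl F hd (htor _ hiδ)) hstart⟩
  have hbig := big_pairs H hc hsl F hν c.pairs [c.iδ] hp fun i hi => by
    rw [List.mem_singleton.1 hi]; exact hbig0
  obtain ⟨ht, hts⟩ := tele_of H hc hsl F hν hbig c.rows [] hrows
  rw [toSet_nil] at ht hts
  have htele := R.tele hν _ (fun _ _ h => h) _ _ ht
  rw [hts, R.Fx_empty, finrank_top, List.map_map] at htele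
  have hsum : (c.rows.map ((fun p : Rt D × List (Rt D × Rt D) =>
      (Fintype.card F - 1) * Fintype.card F ^ p.2.length) ∘
      fun r => (mk H r.1, r.2.1.map fun p => (mk H p.1, mk H p.2)))).sum =
      (c.rows.map fun r => (Fintype.card F - 1) * Fintype.card F ^ r.2.1.length).sum :=
    congrArg List.sum (List.map_congr_left fun r _ => by simp)
  rw [hsum] at htele
  let X : Fin c.N → Fin c.N → F → ↥(D.group F) :=
    fun i j t => gx H F (mk H (c.ar i j)) ((c.asg i j : F) * t)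
  have hlt : ∀ i j : Fin c.N, i ≠ j → c.ar i j < T.n ∧ presB T (endL [] c.rows) (c.ar i j) = true := by
    intro i j hij
    rcases Bool.or_eq_true _ _ |>.mp (hApres i i.isLt j j.isLt) with h | h
    · exact absurd (Fin.ext (Nat.eq_of_beq_eq_true h)) hij
    · simpa using h
  have hcom : ∀ i j k l : Fin c.N, i ≠ j → k ≠ l → i ≠ l → j ≠ k →
      comB T (c.ar i j) (c.ar k l) = true := by
    intro i j k l h1 h2 h3 h4
    have := hAcom i i.isLt j j.isLt k k.isLt l l.isLt
    simp only [Bool.or_eq_true] at this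
    rcases this with (((e | e) | e) | e) | e
    · exact absurd (Fin.ext (Nat.eq_of_beq_eq_true e)) h1
    · exact absurd (Fin.ext (Nat.eq_of_beq_eq_true e)) h2
    · exact absurd (Fin.ext (Nat.eq_of_beq_eq_true e)) h3
    · exact absurd (Fin.ext (Nat.eq_of_beq_eq_true e)) h4
    · exact e
  have hX : Schur.SteinbergSLn.IsSLnRel X := by
    refine ⟨fun i j hij t u => ?_, fun i j k l hij hkl hil hjk t u => ?_,
      fun i j l hij hjl hil t u => ?_⟩
    · show gx H F _ _ = gx H F _ _ * gx H F _ _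
      rw [mul_add]
      exact (R.xe_add _ _ _).symm
    · exact R.comm _ _ (show comB T _ _ = true by
        rw [mk_val H (hlt i j hij).1, mk_val H (hlt k l hkl).1]; exact hcom i j k l hij hkl hil hjk) _ _
    · have hch := hAch i i.isLt j j.isLt l l.isLt
      simp only [Bool.or_eq_true, Bool.and_eq_true, decide_eq_true_eq] at hch
      rcases hch with ((e | e) | e) | ⟨⟨⟨e1, e2⟩, e3⟩, e4⟩
      · exact absurd (Fin.ext (Nat.eq_of_beq_eq_true e)) hij
      · exact absurd (Fin.ext (Nat.eq_of_beq_eq_true e)) hjl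
      · exact absurd (Fin.ext (Nat.eq_of_beq_eq_true e)) hil
      have hrel := gx_rel H hc hsl F (a := mk H (c.ar i j)) (b := mk H (c.ar j l)) (c := mk H (c.ar i l))
        (by rw [mk_val H (hlt i j hij).1, mk_val H (hlt j l hjl).1, mk_val H (hlt i l hil).1]; exact e1)
        ((c.asg i j : F) * t) ((c.asg j l : F) * u)
      rw [mk_val H (hlt i j hij).1, mk_val H (hlt j l hjl).1] at hrel
      have hval : ((-Fast.nn (T.code (c.ar j l) (c.ar i j)) : ℤ) : F) * ((c.asg i j : F) * t) *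
          ((c.asg j l : F) * u) = (c.asg i l : F) * (t * u) := by
        rw [← e4]; push_cast; ring
      rw [hval] at hrel
      have cab : ∀ s t', R.xe (mk H (c.ar i l)) s * R.xe (mk H (c.ar i j)) t' =
          R.xe (mk H (c.ar i j)) t' * R.xe (mk H (c.ar i l)) s := R.comm _ _ (show comB T _ _ = true by
        rw [mk_val H (hlt i l hil).1, mk_val H (hlt i j hij).1]; exact e2)
      have cac : ∀ s t', R.xe (mk H (c.ar i l)) s * R.xe (mk H (c.ar j l)) t' =
          R.xe (mk H (c.ar j l)) t' * R.xe (mk H (c.ar i l)) s := R.comm _ _ (show comB T _ _ = true by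
        rw [mk_val H (hlt i l hil).1, mk_val H (hlt j l hjl).1]; exact e3)
      simp only [hR, model_xe] at cab cac
      show gx H F _ _ * gx H F _ _ = gx H F _ _ * gx H F _ _ * gx H F _ _
      rw [hrel, cac, mul_assoc, mul_assoc, cab]
  have hW := sl_bound ρ (by exact Nat.le_of_ble_eq_true hN) hX (R.Fx ρ ν (toSet D (endL [] c.rows)))
    (fun i j hij t z hz => R.map_Fx (pres_of H hc hsl F (hlt i j hij).1 (hlt i j hij).2) hz _) ?_
  · exact le_trans (Nat.add_le_add_left hW _) htele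
  have hN5 := Nat.le_of_ble_eq_true hN
  refine ⟨⟨0, by omega⟩, ⟨1, by omega⟩, ?_⟩
  have hb := (hbig _ hi0k).2
  have hq := Fintype.one_lt_card (α := F)
  obtain ⟨a, ha, hane⟩ := Finset.exists_ne_zero_of_sum_ne_zero
    (show R.NN ρ ν (mk H (T.p c.i0)) (R.Fx ρ ν (toSet D (exc T c.i0))) ≠ 0 by rw [hR]; omega)
  obtain ⟨z, hz, z0⟩ := (Submodule.ne_bot_iff
    (R.Fx ρ ν (toSet D (exc T c.i0)) ⊓ R.Eg ρ ν (mk H (T.p c.i0)) a)).1
      (fun e => hane (by rw [e, finrank_bot]))
  obtain ⟨s, hs⟩ : ∃ s : F, ν (a * s) ≠ 1 := by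
    by_contra hall
    push Not at hall
    exact (Finset.mem_erase.1 ha).1 <| by
      by_contra ha0
      exact AddChar.IsPrimitive.of_ne_one hν ha0 (DFunLike.ext _ _ hall)
  refine ⟨(c.asg 0 1 : F) * s, z, by simp, R.Fx_anti (toSet_sub hEsub) hz.1, fun e => hs ?_⟩
  have harg : (c.asg 0 1 : F) * ((c.asg 0 1 : F) * s) = s := by
    rw [← mul_assoc, Cert.asg]
    cases (c.aSign.getD 0 []).getD 1 true <;> simp
  have e' : ρ (R.xe (mk H (T.p c.i0)) s) z = z := by
    rw [← Nat.eq_of_beq_eq_true hA01]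
    show ρ (gx H F _ s) z = z
    have : ρ (gx H F (mk H (c.ar 0 1)) ((c.asg 0 1 : F) * ((c.asg 0 1 : F) * s))) z = z := e
    rwa [harg] at this
  rw [R.mem_Eg.1 hz.2 s] at e'
  exact smul_left_injective ℂ z0 (e'.trans (one_smul ℂ z).symm)

end Cfsg.Agent.Lib.SimplyDeg48
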