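import Cfsg.Agent.Lib.ChevStructure.CommAll
import Cfsg.Agent.Lib.ChevStructure.WeylN
import Cfsg.Agent.Lib.SimplyDeg48.Count

/-!
The root system of a simply laced Chevalley group read off its packed table.
-/

set_option autoImplicit false
set_option linter.unusedSectionVars false
set_option maxHeartbeats 400000

namespace Cfsg.Agent.Lib.SimplyDeg48

open Cfsg.Lie Cfsg.Agent.Lib.ChevStructure

/-- The roots a and b have no commutator term. -/
def comB (T : Fast) (a b : ℕ) : Bool := Nat.beq (T.code b a) 0 && !Nat.beq (a + b + 1) T.n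

/-- The commutator term of a and b is at c. -/
def sumB (T : Fast) (a b c : ℕ) : Bool :=
  !Nat.beq (T.code b a) 0 && Nat.beq (Fast.tgt (T.code b a)) c

/-- No chain is longer than one and every structure constant is a sign. -/
def slB (T : Fast) : Bool :=
  allLt T.n fun a => allLt T.n fun b => Nat.beq (T.code a b) 0 ||
    (Nat.beq (T.code a (Fast.tgt (T.code a b))) 0 &&
      (Nat.beq (Nat.land (T.code a b) 7) 3 || Nat.beq (Nat.land (T.code a b) 7) 5))

variable {T : Fast} {D : ChevalleyDatum} (H : Fast.Certified T D) (hc : CommOK H.core)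
  (hsl : slB T = true)

include H hsl in
theorem sl_spec {a b : Rt D} (h : T.code a b ≠ 0) :
    T.code a (Fast.tgt (T.code a b)) = 0 ∧ (Fast.nn (T.code a b) = 1 ∨ Fast.nn (T.code a b) = -1) := by
  have := hsl
  simp only [slB, allLt_iff, Bool.or_eq_true, Bool.and_eq_true] at this
  rcases this _ (H.lt_n a) _ (H.lt_n b) with h0 | ⟨h1, h2⟩
  · exact absurd (Nat.eq_of_beq_eq_true h0) h
  refine ⟨Nat.eq_of_beq_eq_true h1, ?_⟩
  rcases h2 with h2 | h2
  · exact Or.inr (by rw [Fast.nn, Nat.eq_of_beq_eq_true h2]; rfl)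
  · exact Or.inl (by rw [Fast.nn, Nat.eq_of_beq_eq_true h2]; rfl)

include H in
theorem entry_zero {a b : Rt D} (h : T.code a b = 0) : D.chainEntry a.val b.val = [] := by
  have hs := (H.L.chain_steps (H.lt_n a) b.val).1
  cases he : D.chainEntry a.val b.val with
  | nil => rfl
  | cons e rest =>
    obtain ⟨u, M'⟩ := e
    rw [he, Fast.stepsOK] at hs
    simp [h] at hs

include H hsl in
theorem entry_one {a b : Rt D} (h : T.code a b ≠ 0) :
    D.chainEntry a.val b.val = [(Fast.tgt (T.code a b), Fast.nn (T.code a b))] := by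
  have hs := (H.L.chain_steps (H.lt_n a) b.val).1
  obtain ⟨h0, -⟩ := sl_spec H hsl h
  cases he : D.chainEntry a.val b.val with
  | nil =>
    rw [he, Fast.stepsOK] at hs
    exact absurd (Nat.eq_of_beq_eq_true hs) h
  | cons e rest =>
    obtain ⟨u, M'⟩ := e
    rw [he, Fast.stepsOK] at hs
    simp only [Bool.and_eq_true, decide_eq_true_eq] at hs
    obtain ⟨⟨⟨⟨⟨⟨-, h1⟩, h2⟩, -⟩, -⟩, -⟩, h3⟩ := hs
    have hu := Nat.eq_of_beq_eq_true h1
    cases rest with
    | nil =>
      rw [hu]
      simp only [zero_add, Nat.cast_one, one_mul] at h2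
      rw [h2]
    | cons e' r' =>
      obtain ⟨u', M''⟩ := e'
      rw [Fast.stepsOK, ← hu] at h3
      simp [h0] at h3

include H hsl in
theorem terms_one {a b : Rt D} (h : T.code a b ≠ 0) :
    D.commTerms a.val b.val = [(Fast.tgt (T.code a b), Fast.nn (T.code a b), 1, 1)] := by
  obtain ⟨hb, ht, hn⟩ := H.code_symm h
  simp [ChevalleyDatum.commTerms, ChevalleyDatum.chainRoot, ChevalleyDatum.chainM,
    entry_one H hsl h, entry_one H hsl hb]

include H in
theorem terms_zero {a b : Rt D} (h : T.code a b = 0) : D.commTerms a.val b.val = [] := by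
  have hb : T.code b a = 0 := by
    by_contra hb
    exact (H.code_symm hb).1 h
  simp [ChevalleyDatum.commTerms, ChevalleyDatum.chainRoot, ChevalleyDatum.chainM,
    entry_zero H h, entry_zero H hb]

include H in
theorem tgt_lt' {a b : Rt D} (h : T.code a b ≠ 0) : Fast.tgt (T.code a b) < D.nroots :=
  (H.tgt_lt h).trans_eq H.hn.symm

variable (F : Type*) [Field F]

/-- A root element of the group. -/
noncomputable def gx (r : Rt D) (s : F) : ↥(D.group F) := ⟨H.core.X F r s, H.core.X_mem_group r s⟩

theorem gx_val (r : Rt D) (s : F) : (gx H F r s : GL D.Idx F) = H.core.X F r s := rfl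

include hc hsl in
/-- The commutator relation with its constant. -/
theorem gx_rel {a b c : Rt D} (h : sumB T a.val b.val c.val = true) (s u : F) :
    gx H F a s * gx H F b u =
      gx H F b u * gx H F a s * gx H F c (((-Fast.nn (T.code b a) : ℤ) : F) * s * u) := by
  simp only [sumB, Bool.and_eq_true, Bool.not_eq_eq_eq_not, Bool.not_true] at h
  have h0 := Nat.ne_of_beq_eq_false h.1
  obtain ⟨-, hne1, hne2⟩ := H.L.key_ok (H.lt_n b) h0
  have hab : a ≠ b := fun e => hne1 (by rw [e])
  have hne : a ≠ b.rev := fun e => hne2 (by rw [e, H.rev_val])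
  refine Subtype.ext ?_
  simp only [Subgroup.coe_mul, gx_val]
  rw [hc.comm_X b a hab hne u s, terms_one H hsl h0]
  simp only [List.map_cons, List.map_nil, List.prod_cons, List.prod_nil, mul_one, pow_one,
    Nat.eq_of_beq_eq_true h.2, H.core.XN_fin]
  congr 2
  push_cast
  ring

/-- The root groups of the Chevalley group. -/
noncomputable def model : RootSys ↥(D.group F) F (Rt D) where
  xe := gx H F
  xe_add r s t := Subtype.ext (H.core.X_add F r s t)
  Com a b := comB T a.val b.val = true
  Sum a b c := sumB T a.val b.val c.val = true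
  comm a b h s u := by
    simp only [comB, Bool.and_eq_true, Bool.not_eq_eq_eq_not, Bool.not_true] at h
    refine Subtype.ext ?_
    simp only [Subgroup.coe_mul, gx_val]
    by_cases hab : a = b
    · subst hab
      rw [H.core.X_add, H.core.X_add, add_comm]
    have hne : a ≠ b.rev := fun e => by
      have h2 := Nat.ne_of_beq_eq_false h.2
      apply h2
      have := H.hn
      have := b.isLt
      rw [e, Fin.val_rev]
      omega
    rw [hc.comm_X b a hab hne u s, terms_zero H (Nat.eq_of_beq_eq_true h.1)]
    simp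
  rel a b c h := by
    refine ⟨((-Fast.nn (T.code b a) : ℤ) : F), ?_, gx_rel H hc hsl F h⟩
    simp only [sumB, Bool.and_eq_true, Bool.not_eq_eq_eq_not, Bool.not_true] at h
    rcases (sl_spec H hsl (Nat.ne_of_beq_eq_false h.1)).2 with e | e <;> rw [e] <;> simp

theorem model_xe (r : Rt D) (s : F) : (model H hc hsl F).xe r s = gx H F r s := rfl

/-- The element of the group attached to a word. -/
noncomputable def gw (L : List (Fin D.rank)) : ↥(D.group F) :=
  ⟨H.core.wprod F L, H.core.monomial_le_group (H.core.wprod_mem_monomial L)⟩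

theorem cj_gw (L : List (Fin D.rank)) (r : Rt D) :
    (model H hc hsl F).Cj (gw H F L) r (H.core.pprod L r) := by
  obtain ⟨e, he⟩ := H.core.acts_wprod F L r
  refine ⟨(e : F), e.ne_zero, fun s => Subtype.ext ?_⟩
  show H.core.wprod F L * H.core.X F r s = H.core.X F (H.core.pprod L r) ((e : F) * s) * H.core.wprod F L
  rw [← he s, inv_mul_cancel_right]

theorem exists_torus {δ r0 : Rt D} (h : ChevStructure.pr D r0 δ = 1) (u : F) (hu : u ≠ 0) :
    ∃ t : ↥(D.group F), (∀ s, t * (model H hc hsl F).xe δ s = (model H hc hsl F).xe δ (u * s) * t) ∧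
      ∀ r, (model H hc hsl F).Cj t r r := by
  set c : Fin D.rank → Fˣ := fun j => Units.mk0 u hu ^ co D r0 j with hcdef
  refine ⟨⟨H.core.HT F c, H.core.HT_mem_group c⟩, fun s => Subtype.ext ?_, fun r => ?_⟩
  · show H.core.HT F c * H.core.X F δ s = H.core.X F δ (u * s) * H.core.HT F c
    have hch : H.core.chA c δ = Units.mk0 u hu := by
      have : H.core.chA c δ = Units.mk0 u hu ^ ChevStructure.pr D r0 δ := by
        rw [Core.chA, ChevStructure.pr, H.core.zpow_fsum]
        exact Finset.prod_congr rfl fun j _ => (zpow_mul _ _ _).symm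
      rw [this, h, zpow_one]
    have e := H.core.HT_X_conj F c δ s
    rw [hch, Units.val_mk0] at e
    rw [← e, inv_mul_cancel_right]
  · obtain ⟨e, he⟩ := H.core.acts_HT F c r
    refine ⟨(e : F), e.ne_zero, fun s => Subtype.ext ?_⟩
    show H.core.HT F c * H.core.X F r s = H.core.X F r ((e : F) * s) * H.core.HT F c
    have e' := he s
    rw [Equiv.Perm.one_apply] at e'
    rw [← e', inv_mul_cancel_right]

end Cfsg.Agent.Lib.SimplyDeg48
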