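import Cfsg.Agent.Lib.OrthDeg48.Data
import Cfsg.Agent.Lib.ExcDeg48.D4Abstract
import Mathlib.NumberTheory.LegendreSymbol.AddCharacter

/-!
Root groups with at most one commutator term: eigenspaces, fixed spaces and their counting.
-/

set_option autoImplicit false
set_option linter.unusedSectionVars false
set_option maxHeartbeats 400000

namespace Cfsg.Agent.Lib.SimplyDeg48

open Module Cfsg.Agent.Lib.UniDeg48

/-- Root groups with commutator relations of a simply laced system. -/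
structure RootSys (G : Type*) [Group G] (F : Type*) [Field F] (ι : Type*) where
  xe : ι → F → G
  xe_add : ∀ r s t, xe r s * xe r t = xe r (s + t)
  Com : ι → ι → Prop
  Sum : ι → ι → ι → Prop
  comm : ∀ a b, Com a b → ∀ s u, xe a s * xe b u = xe b u * xe a s
  rel : ∀ a b c, Sum a b c →
    ∃ e : F, e ≠ 0 ∧ ∀ s u, xe a s * xe b u = xe b u * xe a s * xe c (e * s * u)

variable {G : Type*} [Group G] {F : Type*} [Field F] {ι : Type*} (R : RootSys G F ι)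

namespace RootSys

theorem xe_zero (r : ι) : R.xe r 0 = 1 := by
  have := R.xe_add r 0 0
  rw [add_zero] at this
  exact left_eq_mul.1 this.symm

/-- A root group as a homomorphism. -/
def xHom (r : ι) : Multiplicative F →* G :=
  MonoidHom.mk' (fun s => R.xe r s.toAdd) fun s t => (R.xe_add r s.toAdd t.toAdd).symm

theorem xHom_apply (r : ι) (s : F) : R.xHom r (Multiplicative.ofAdd s) = R.xe r s := rfl

/-- `g` carries the root group r to the root group r'. -/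
def Cj (g : G) (r r' : ι) : Prop := ∃ e : F, e ≠ 0 ∧ ∀ s, g * R.xe r s = R.xe r' (e * s) * g

theorem Cj.mul {g h : G} {r r' r'' : ι} (hg : R.Cj g r' r'') (hh : R.Cj h r r') : R.Cj (g * h) r r'' := by
  obtain ⟨e, he, hg⟩ := hg
  obtain ⟨e', he', hh⟩ := hh
  refine ⟨e * e', mul_ne_zero he he', fun s => ?_⟩
  rw [mul_assoc, hh, ← mul_assoc, hg, mul_assoc e, mul_assoc]

/-- The condition under which x_m keeps the common fixed space of S. -/
def Pres (S : Set ι) (m : ι) : Prop := ∀ r ∈ S, R.Com r m ∨ ∃ c ∈ S, R.Sum r m c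

variable {M : Type*} [AddCommGroup M] [Module ℂ M] (ρ : Representation ℂ G M) (ν : AddChar F ℂ)

/-- The eigenspace of a root group. -/
noncomputable def Eg (r : ι) (a : F) : Submodule ℂ M := eigSub ρ (R.xHom r) (ν.mulShift a)

/-- The common fixed space of a set of root groups. -/
noncomputable def Fx (S : Set ι) : Submodule ℂ M := ⨅ r ∈ S, R.Eg ρ ν r 0

variable {ρ ν}

theorem mem_Eg {r : ι} {a : F} {z : M} :
    z ∈ R.Eg ρ ν r a ↔ ∀ s, ρ (R.xe r s) z = ν (a * s) • z := by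
  rw [Eg, mem_eigSub]; rfl

theorem mem_Eg_zero {r : ι} {z : M} : z ∈ R.Eg ρ ν r 0 ↔ ∀ s, ρ (R.xe r s) z = z := by
  simp [mem_Eg]

theorem mem_Fx {S : Set ι} {z : M} : z ∈ R.Fx ρ ν S ↔ ∀ r ∈ S, ∀ s, ρ (R.xe r s) z = z := by
  simp [Fx, mem_Eg_zero]

theorem Fx_anti {S T : Set ι} (h : S ⊆ T) : R.Fx ρ ν T ≤ R.Fx ρ ν S := fun _ hz =>
  R.mem_Fx.2 fun r hr => R.mem_Fx.1 hz r (h hr)

theorem Fx_empty : R.Fx ρ ν ∅ = ⊤ := by simp [Fx]

theorem Fx_insert (r : ι) (S : Set ι) : R.Fx ρ ν (insert r S) = R.Fx ρ ν S ⊓ R.Eg ρ ν r 0 := by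
  ext z
  simp [mem_Fx, mem_Eg_zero, and_comm]

/-- Moving a product past a commuting pair. -/
theorem map_rel {a b c : ι} {e : F}
    (h : ∀ s u, R.xe a s * R.xe b u = R.xe b u * R.xe a s * R.xe c (e * s * u))
    {v w : F} {z : M} (ha : z ∈ R.Eg ρ ν a v) (hc : z ∈ R.Eg ρ ν c w) (u : F) :
    ρ (R.xe b u) z ∈ R.Eg ρ ν a (v + w * e * u) := by
  refine R.mem_Eg.2 fun s => ?_
  rw [← Module.End.mul_apply, ← map_mul, h, map_mul, map_mul, Module.End.mul_apply,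
    Module.End.mul_apply, R.mem_Eg.1 hc, map_smul, R.mem_Eg.1 ha, map_smul, map_smul, smul_smul,
    add_mul, AddChar.map_add_eq_mul, mul_comm (ν (v * s))]
  congr 3
  ring

theorem map_com {a b : ι} (h : R.Com a b) {v : F} {z : M} (ha : z ∈ R.Eg ρ ν a v) (u : F) :
    ρ (R.xe b u) z ∈ R.Eg ρ ν a v := by
  refine R.mem_Eg.2 fun s => ?_
  rw [← Module.End.mul_apply, ← map_mul, R.comm a b h, map_mul, Module.End.mul_apply,
    R.mem_Eg.1 ha, map_smul]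

theorem map_Fx {S : Set ι} {m : ι} (h : R.Pres S m) {z : M} (hz : z ∈ R.Fx ρ ν S) (u : F) :
    ρ (R.xe m u) z ∈ R.Fx ρ ν S := by
  refine R.mem_Fx.2 fun r hr => (R.mem_Eg_zero (ν := ν)).1 ?_
  have hr0 : z ∈ R.Eg ρ ν r 0 := R.mem_Eg_zero.2 (R.mem_Fx.1 hz r hr)
  rcases h r hr with hc | ⟨c, hc, hs⟩
  · exact R.map_com hc hr0 u
  · obtain ⟨e, -, he⟩ := R.rel r m c hs
    simpa using R.map_rel he hr0 (R.mem_Eg_zero.2 (R.mem_Fx.1 hz c hc) : z ∈ R.Eg ρ ν c 0) u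

/-- A conjugation moves eigenspaces. -/
theorem map_Cj {g : G} {r r' : ι} (h : R.Cj g r r') :
    ∃ e : F, e ≠ 0 ∧ ∀ a, ∀ z ∈ R.Eg ρ ν r a, ρ g z ∈ R.Eg ρ ν r' (e * a) := by
  obtain ⟨e, he, h⟩ := h
  refine ⟨e⁻¹, inv_ne_zero he, fun a z hz => R.mem_Eg.2 fun s => ?_⟩
  have : R.xe r' s * g = g * R.xe r (e⁻¹ * s) := by
    rw [h, ← mul_assoc e, mul_inv_cancel₀ he, one_mul]
  rw [← Module.End.mul_apply, ← map_mul, this, map_mul, Module.End.mul_apply, R.mem_Eg.1 hz, map_smul,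
    mul_assoc e⁻¹, mul_left_comm e⁻¹]

theorem map_Cj_Fx {g : G} {S T : Set ι} (h : ∀ t ∈ T, ∃ s ∈ S, R.Cj g s t) {z : M}
    (hz : z ∈ R.Fx ρ ν S) : ρ g z ∈ R.Fx ρ ν T := by
  refine R.mem_Fx.2 fun t ht => (R.mem_Eg_zero (ν := ν)).1 ?_
  obtain ⟨s, hs, hc⟩ := h t ht
  obtain ⟨e, -, he⟩ := R.map_Cj (ρ := ρ) (ν := ν) hc
  simpa using he 0 z (R.mem_Eg_zero.2 (R.mem_Fx.1 hz s hs))

variable [Fintype F] [FiniteDimensional ℂ M]

variable (ρ ν) in
/-- The dimension of the part moved by a root group. -/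
noncomputable def NN (r : ι) (X : Submodule ℂ M) : ℕ := by
  classical
  exact ∑ a ∈ Finset.univ.erase (0 : F), finrank ℂ (X ⊓ R.Eg ρ ν r a : Submodule ℂ M)

theorem NN_mono (r : ι) {X Y : Submodule ℂ M} (h : X ≤ Y) : R.NN ρ ν r X ≤ R.NN ρ ν r Y :=
  Finset.sum_le_sum fun _ _ => Submodule.finrank_mono (inf_le_inf_right _ h)

/-- A conjugation does not decrease the moved part. -/
theorem NN_le_of_Cj {g : G} {r r' : ι} (h : R.Cj g r r') {X Y : Submodule ℂ M}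
    (hXY : ∀ z ∈ X, ρ g z ∈ Y) : R.NN ρ ν r X ≤ R.NN ρ ν r' Y := by
  classical
  obtain ⟨e, he0, he⟩ := R.map_Cj (ρ := ρ) (ν := ν) h
  calc R.NN ρ ν r X
      ≤ ∑ a ∈ Finset.univ.erase (0 : F), finrank ℂ (Y ⊓ R.Eg ρ ν r' (e * a) : Submodule ℂ M) :=
        Finset.sum_le_sum fun a _ => ExcDeg48.rep_le ρ g fun z hz => ⟨hXY z hz.1, he a z hz.2⟩
    _ = R.NN ρ ν r' Y := by
        refine Finset.sum_bij' (fun a _ => e * a) (fun a _ => e⁻¹ * a) ?_ ?_ ?_ ?_ ?_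
        · intro a ha; simp at ha ⊢; exact ⟨he0, ha⟩
        · intro a ha; simp at ha ⊢; exact ⟨he0, ha⟩
        · intro a _; field_simp
        · intro a _; field_simp
        · intro a _; rfl

theorem NN_Fx_le_of_Cj {g : G} {r r' : ι} (h : R.Cj g r r') {S T : Set ι}
    (hST : ∀ t ∈ T, ∃ s ∈ S, R.Cj g s t) :
    R.NN ρ ν r (R.Fx ρ ν S) ≤ R.NN ρ ν r' (R.Fx ρ ν T) :=
  R.NN_le_of_Cj h fun _ => R.map_Cj_Fx hST

variable (hν : ν ≠ 1)
include hν

theorem mulShift_bij : Function.Bijective fun a : F => ν.mulShift a := by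
  classical
  rw [Fintype.bijective_iff_injective_and_card, AddChar.card_eq]
  exact ⟨AddChar.to_mulShift_inj_of_isPrimitive (AddChar.IsPrimitive.of_ne_one hν), rfl⟩

/-- An invariant subspace is the sum of its eigenparts. -/
theorem sum_split (r : ι) (X : Submodule ℂ M) (hX : ∀ s, ∀ z ∈ X, ρ (R.xe r s) z ∈ X) :
    finrank ℂ X = ∑ a : F, finrank ℂ (X ⊓ R.Eg ρ ν r a : Submodule ℂ M) := by
  classical
  rw [← OrthDeg48.sum_inf_eig ρ (R.xHom r) X (fun s z hz => hX s.toAdd z hz)]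
  exact (Fintype.sum_bijective (fun a : F => ν.mulShift a) (mulShift_bij hν) _ _ fun a => rfl).symm

theorem finrank_eq (r : ι) (X : Submodule ℂ M) (hX : ∀ s, ∀ z ∈ X, ρ (R.xe r s) z ∈ X) :
    finrank ℂ X = R.NN ρ ν r X + finrank ℂ (X ⊓ R.Eg ρ ν r 0 : Submodule ℂ M) := by
  classical
  rw [R.sum_split hν r X hX, NN]
  exact (Finset.sum_erase_add _ _ (Finset.mem_univ _)).symm

theorem finrank_Fx {S : Set ι} {r : ι} (h : R.Pres S r) :
    finrank ℂ (R.Fx ρ ν S) = R.NN ρ ν r (R.Fx ρ ν S) + finrank ℂ (R.Fx ρ ν (insert r S)) := by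
  rw [R.Fx_insert, ← R.finrank_eq hν r _ fun s z hz => R.map_Fx h hz s]

/-- A neighbour of γ spreads the moved part evenly. -/
theorem NN_shift {γ l m : ι} (hs : R.Sum l m γ) (hl : R.Com γ l) (hm : R.Com γ m) {S : Set ι}
    (pl : R.Pres S l) (pm : R.Pres S m) :
    R.NN ρ ν γ (R.Fx ρ ν S) = Fintype.card F * R.NN ρ ν γ (R.Fx ρ ν (insert l S)) := by
  classical
  obtain ⟨e, he, hrel⟩ := R.rel l m γ hs
  rw [NN, NN, Finset.mul_sum]
  refine Finset.sum_congr rfl fun a ha => ?_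
  have ha0 : a ≠ 0 := (Finset.mem_erase.1 ha).1
  have hmove : ∀ b u, ∀ z ∈ R.Fx ρ ν S ⊓ R.Eg ρ ν γ a ⊓ R.Eg ρ ν l b,
      ρ (R.xe m u) z ∈ R.Fx ρ ν S ⊓ R.Eg ρ ν γ a ⊓ R.Eg ρ ν l (b + a * e * u) := fun b u z hz =>
    ⟨⟨R.map_Fx pm hz.1.1 u, R.map_com hm hz.1.2 u⟩, R.map_rel hrel hz.2 hz.1.2 u⟩
  have hconst : ∀ b : F, finrank ℂ (R.Fx ρ ν S ⊓ R.Eg ρ ν γ a ⊓ R.Eg ρ ν l b : Submodule ℂ M) =
      finrank ℂ (R.Fx ρ ν S ⊓ R.Eg ρ ν γ a ⊓ R.Eg ρ ν l 0 : Submodule ℂ M) := by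
    intro b
    refine le_antisymm (ExcDeg48.rep_le ρ (R.xe m (-(b / (a * e)))) fun z hz => ?_)
      (ExcDeg48.rep_le ρ (R.xe m (b / (a * e))) fun z hz => ?_)
    · have := hmove b (-(b / (a * e))) z hz
      rwa [mul_neg, mul_div_cancel₀ _ (mul_ne_zero ha0 he), add_neg_cancel] at this
    · have := hmove 0 (b / (a * e)) z hz
      rwa [zero_add, mul_div_cancel₀ _ (mul_ne_zero ha0 he)] at this
  rw [R.sum_split hν l (R.Fx ρ ν S ⊓ R.Eg ρ ν γ a) fun s z hz =>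
      ⟨R.map_Fx pl hz.1 s, R.map_com hl hz.2 s⟩,
    Finset.sum_congr rfl fun b _ => hconst b, Finset.sum_const, Finset.card_univ, smul_eq_mul,
    R.Fx_insert, inf_right_comm]

end RootSys

end Cfsg.Agent.Lib.SimplyDeg48
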